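import Groth.Agent.AVMukai.Fibre
import Groth.Agent.AgDual.FinitePts
import Groth.Agent.AgSymm.Family
import Groth.Agent.AVAmple.Translate
import Groth.Agent.S8121

/-!
The Poincaré pairing has finite kernels on both sides.
-/

set_option autoImplicit false
set_option backward.isDefEq.respectTransparency false
set_option backward.isDefEq.respectTransparency.types false
set_option linter.style.haveILetI false
set_option linter.unusedSectionVars false
set_option maxHeartbeats 1000000

universe u

open CategoryTheory MonoidalCategory CartesianMonoidalCategory MonObj GrpObj AlgebraicGeometry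
open Groth.Agent.W7Cube (pull pull_pull pull_cls pc pull_pc pc_one pc_id pc_const)
open Groth.Agent.AbPrim (val pull_val)

noncomputable section

namespace Groth.Agent.AVMukai

attribute [local instance] W7Cube.law

variable {k : Type u} [Field k] {A At : Over (Spec (CommRingCat.of k))} [GrpObj A] [GrpObj At]
  [IsProper A.hom] [Smooth A.hom] [GeometricallyConnected A.hom]
  {φ : ∀ T : Over (Spec (CommRingCat.of k)), PicF.Cl (PicF.XT A.hom T) → (T ⟶ At)}
  (hA : AbDual.IsDualAV Scheme.fppfPrecoverage A At φ) (Q : AgSymm.Poincare φ)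

omit [IsProper A.hom] [Smooth A.hom] [GeometricallyConnected A.hom] in
lemma pull_whiskerLeft {T : Over (Spec (CommRingCat.of k))} (g : T ⟶ At) : pull (A ◁ g).left Q.x = Q.cls g := by
  rw [Q.cls_eq, AgSymm.XTmap_eq]
  rfl

include hA in
lemma cls_one (T : Over (Spec (CommRingCat.of k))) : Q.cls (1 : T ⟶ At) = 1 := by
  change val Q.x (fst A T) (snd A T ≫ 1) = 1
  rw [comp_one, Q.val_one_right hA]

include hA in
/-- points with trivial class are trivial -/
theorem eq_one_of_pull {T : Over (Spec (CommRingCat.of k))} (g : T ⟶ At) (h : pull (A ◁ g).left Q.x = 1) : g = 1 := by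
  rw [pull_whiskerLeft] at h
  rw [← Q.phi_cls hA g, h, ← cls_one hA Q T, Q.phi_cls hA]

include hA in
/-- points with the same pairing agree -/
theorem eq_of_val {T : Over (Spec (CommRingCat.of k))} {g g' : T ⟶ At}
    (h : val Q.x (fst A T) (snd A T ≫ g) = val Q.x (fst A T) (snd A T ≫ g')) : g = g' := by
  rw [← Q.phi_cls hA g, ← Q.phi_cls hA g']
  exact congrArg (fun c => φ T c.1) h

/-- the Mumford pairing of a class -/
def lam (c : PicLoc.PicSet A.left) {V : Over (Spec (CommRingCat.of k))} (f t : V ⟶ A) : PicLoc.PicSet V.left :=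
  pc c (f * t) * (pc c f)⁻¹ * (pc c t)⁻¹

omit [IsProper A.hom] [Smooth A.hom] [GeometricallyConnected A.hom] in
lemma pull_lam (c : PicLoc.PicSet A.left) {V V' : Over (Spec (CommRingCat.of k))} (s : V' ⟶ V) (f t : V ⟶ A) :
    pull s.left (lam c f t) = lam c (s ≫ f) (s ≫ t) := by
  simp only [lam, map_mul, map_inv, pull_pc, MonObj.comp_mul]

omit [IsProper A.hom] [Smooth A.hom] [GeometricallyConnected A.hom] in
lemma lam_comm [IsCommMonObj A] (c : PicLoc.PicSet A.left) {V : Over (Spec (CommRingCat.of k))} (f t : V ⟶ A) :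
    lam c f t = lam c t f := by
  rw [lam, lam, _root_.mul_comm f t, mul_right_comm]

omit [IsProper A.hom] [Smooth A.hom] [GeometricallyConnected A.hom] in
lemma lam_one (c : PicLoc.PicSet A.left) {V : Over (Spec (CommRingCat.of k))} (t : V ⟶ A) : lam c 1 t = 1 := by
  rw [lam, _root_.one_mul, pc_one, inv_one, _root_.mul_one, mul_inv_cancel]

include hA in
/-- the polarisation map of a class -/
theorem exists_lam (c : PicLoc.PicSet A.left) : ∃ l : A ⟶ At,
    ∀ {V : Over (Spec (CommRingCat.of k))} (f t : V ⟶ A), val Q.x f (t ≫ l) = lam c f t := by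
  haveI : GeometricallyReduced A.hom := Rigid.geometricallyReduced_of_smooth _
  haveI : GeometricallyIntegral A.hom := W7Cube.geometricallyIntegral_grp
  haveI : IsCommMonObj A := isCommMonObj_of_isProper_of_geometricallyIntegral A
  let L := lam c (fst A A) (snd A A)
  have h0 : AbDual.IsPicZeroCl A.hom A L.1 :=
    AgSymm.picZero_of_family (X := A) (T := A) (𝟙 _) A.hom (Category.comp_id _) η[A] (Over.w η[A]) L (by
      refine (pull_lam c (A ◁ η[A]) (fst A A) (snd A A)).trans ?_
      rw [whiskerLeft_fst, whiskerLeft_snd, show snd A (𝟙_ (Over (Spec (CommRingCat.of k)))) = toUnit _ from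
        toUnit_unique _ _, ← Hom.one_def, lam_comm, lam_one])
  have hr : val L 1 (𝟙 A) = 1 := by
    refine (pull_lam c (lift 1 (𝟙 A)) (fst A A) (snd A A)).trans ?_
    rw [lift_fst, lift_snd, lam_one]
  refine ⟨φ A L.1, fun {V} f t => ?_⟩
  rw [← Q.val_cls, ← Q.eq_cls hA h0 hr]
  refine (pull_lam c (lift f t) (fst A A) (snd A A)).trans ?_
  rw [lift_fst, lift_snd]

include hA in
/-- **a symmetric finite homomorphism to the dual** -/
theorem exists_symm_finite [IsProper At.hom] :
    ∃ l : A ⟶ At, IsFinite l.left ∧ IsMonHom l ∧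
      ∀ {V : Over (Spec (CommRingCat.of k))} (f t : V ⟶ A), val Q.x f (t ≫ l) = val Q.x t (f ≫ l) := by
  haveI : GeometricallyReduced A.hom := Rigid.geometricallyReduced_of_smooth _
  haveI : GeometricallyIntegral A.hom := W7Cube.geometricallyIntegral_grp
  haveI : IsCommMonObj A := isCommMonObj_of_isProper_of_geometricallyIntegral A
  obtain ⟨H, hH, -⟩ := S8121.result k A
  obtain ⟨l, hl⟩ := exists_lam hA Q (PicGrp.cls H hH.1)
  have hs : ∀ {V : Over (Spec (CommRingCat.of k))} (f t : V ⟶ A), val Q.x f (t ≫ l) = val Q.x t (f ≫ l) :=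
    fun f t => by rw [hl, hl, lam_comm]
  haveI hm : IsMonHom l := by
    refine ⟨?_, ?_⟩
    · rw [show η[A] = (1 : 𝟙_ (Over (Spec (CommRingCat.of k))) ⟶ A) by
        rw [Hom.one_def, toUnit_unique (toUnit _) (𝟙 _), Category.id_comp]]
      rw [show η[At] = (1 : 𝟙_ (Over (Spec (CommRingCat.of k))) ⟶ At) by
        rw [Hom.one_def, toUnit_unique (toUnit _) (𝟙 _), Category.id_comp]]
      refine eq_of_val hA Q ?_
      rw [← Category.assoc, comp_one, comp_one, hs, Q.val_one_left, Q.val_one_right hA]
    · rw [show μ[A] = fst A A * snd A A from MonObj.mul_eq_mul A,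
        show (l ⊗ₘ l) ≫ μ[At] = (fst A A ≫ l) * (snd A A ≫ l) by
          rw [MonObj.mul_eq_mul, comp_mul, tensorHom_fst, tensorHom_snd]]
      refine eq_of_val hA Q ?_
      rw [comp_mul, Q.val_mul_right hA, ← Category.assoc, ← Category.assoc, ← Category.assoc, hs, comp_mul,
        Q.val_mul_left, hs (fst A (A ⊗ A)), hs (fst A (A ⊗ A))]
  refine ⟨l, ?_, hm, hs⟩
  refine AgDual.isFinite_of_kernel_points l fun Ω _ _ τ => ?_
  let B := Red.bc τ A
  haveI : IsProper B.hom := inferInstanceAs (IsProper (Limits.pullback.snd A.hom τ))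
  haveI : GeometricallyIntegral B.hom := inferInstanceAs (GeometricallyIntegral (Limits.pullback.snd A.hom τ))
  haveI : IsAffineHom τ := isAffineHom_of_isAffine τ
  haveI : IsAffineHom (Limits.pullback.fst A.hom τ) :=
    MorphismProperty.pullback_fst A.hom τ inferInstance
  let HΩ := (Scheme.Modules.pullback (Limits.pullback.fst A.hom τ)).obj H
  have hHΩ : CohB1.IsAmple HΩ := TMul.isAmple_pullback_of_isAffineHom _ hH
  let pt : (Over.mk τ ⟶ A) → (𝟙_ (Over (Spec (CommRingCat.of Ω))) ⟶ B) := fun a =>
    Over.homMk (Limits.pullback.lift a.left (𝟙 _) ((Over.w a).trans (Category.id_comp τ).symm))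
      (Limits.pullback.lift_snd _ _ _)
  refine Set.Finite.of_finite_image (f := pt) ((AVAmple.finite_fixing (A := B) hHΩ).subset ?_) ?_
  · rintro _ ⟨a, ha, rfl⟩
    have hb : ∀ {U : Over (Spec (CommRingCat.of Ω))} (f : U ⟶ B),
        pc (PicGrp.cls HΩ hHΩ.1) f = pull (AgSymm.toBase τ f).left (PicGrp.cls H hH.1) := fun f => by
      rw [pc, ← pull_cls (Limits.pullback.fst A.hom τ) H hH.1]
      exact (pull_pull f.left _ _).trans (congrArg (fun m => pull m _) (AgSymm.toBase_left τ f).symm)
    let s : (Over.map τ).obj B ⟶ Over.mk τ := Over.homMk B.hom rfl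
    have hc : AgSymm.toBase τ (toUnit B ≫ pt a) = s ≫ a := Over.OverMorphism.ext (by
      rw [AgSymm.toBase_left, Over.comp_left, Over.comp_left, Category.assoc]
      exact congrArg (B.hom ≫ ·) (Limits.pullback.lift_fst _ _ _))
    have hl' := hl (AgSymm.toBase τ (𝟙 B)) (AgSymm.toBase τ (toUnit B ≫ pt a))
    rw [hc, Category.assoc, show a ≫ l = 1 from ha, comp_one, Q.val_one_right hA, lam, ← hc,
      ← AgSymm.toBase_mul] at hl'
    simp only [pc] at hl'
    rw [← hb, ← hb, ← hb, pc_const, pc_id, inv_one, _root_.mul_one] at hl'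
    exact mul_inv_eq_one.1 hl'.symm
  · intro a _ b _ hab
    refine Over.OverMorphism.ext ?_
    have := congrArg (fun m => m.left ≫ Limits.pullback.fst A.hom τ) hab
    simpa [pt] using this

end Groth.Agent.AVMukai
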