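import Groth.Agent.AVMukai.Supported
import Groth.Agent.AVMukai.Kernel
import Groth.Agent.AVMukai.LerayLin
import Groth.Agent.SmLocalST.SmoothField
import Groth.Agent.S0354
import Groth.Agent.S0469
import Groth.Agent.AgVanish.PhiSurj

/-!
The two sides of the Poincaré bundle: supports and vanishing.
-/

set_option autoImplicit false
set_option backward.isDefEq.respectTransparency false
set_option backward.isDefEq.respectTransparency.types false
set_option linter.style.haveILetI false
set_option linter.unusedSectionVars false
set_option maxHeartbeats 1000000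

universe u

open CategoryTheory MonoidalCategory CartesianMonoidalCategory MonObj GrpObj AlgebraicGeometry TopologicalSpace
open Groth.Agent.W7Cube (pull pull_pull pull_cls)
open Groth.Agent.AbPrim (val pull_val)

noncomputable section

namespace Groth.Agent.AVMukai

attribute [local instance] W7Cube.law

variable {k : Type u} [Field k]

/-- the origin -/
abbrev org (G : Over (Spec (CommRingCat.of k))) [GrpObj G] : G.left := η[G].left (IsLocalRing.closedPoint k)

/-- the origin is closed -/
theorem isClosed_org (G : Over (Spec (CommRingCat.of k))) [GrpObj G] [IsSeparated G.hom] :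
    IsClosed ({org G} : Set G.left) := by
  haveI : IsClosedImmersion η[G].left := by
    haveI : IsClosedImmersion (η[G].left ≫ G.hom) := by
      rw [Over.w η[G]]
      exact inferInstanceAs (IsClosedImmersion (𝟙 (Spec (CommRingCat.of k))))
    exact IsClosedImmersion.of_comp η[G].left G.hom
  haveI : Subsingleton (Spec (CommRingCat.of k)) := inferInstanceAs (Subsingleton (PrimeSpectrum k))
  have h : Set.range η[G].left = {org G} := Set.Subset.antisymm
    (Set.range_subset_iff.2 fun x => congrArg η[G].left (Subsingleton.elim (α := Spec (CommRingCat.of k)) x _))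
    (Set.singleton_subset_iff.2 ⟨_, rfl⟩)
  exact h ▸ η[G].left.isClosedEmbedding.isClosed_range

/-- the closed points of a smooth group are regular of the dimension of the group -/
theorem exists_dim (G : Over (Spec (CommRingCat.of k))) [GrpObj G] [Smooth G.hom] [IsSeparated G.hom] :
    ∃ n : ℕ, topologicalKrullDim G.left = n ∧ ∀ z : G.left, IsClosed ({z} : Set G.left) →
      IsRegularLocalRing (G.left.presheaf.stalk z) ∧ ringKrullDim (G.left.presheaf.stalk z) = n := by
  have ho := isClosed_org G
  haveI := fun z => SmLocalST.isRegularLocalRing_stalk_of_smooth_field G.hom z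
  obtain ⟨n, hn⟩ : ∃ n : ℕ, ringKrullDim (G.left.presheaf.stalk (org G)) = n := by
    have h := ringKrullDim_ne_top (R := G.left.presheaf.stalk (org G))
    have h' : ringKrullDim (G.left.presheaf.stalk (org G)) ≠ ⊥ := fun e => by
      have := ringKrullDim_nonneg_of_nontrivial (R := G.left.presheaf.stalk (org G))
      rw [e] at this
      exact absurd this (by simp)
    obtain ⟨a, ha⟩ := WithBot.ne_bot_iff_exists.1 h'
    obtain ⟨n, rfl⟩ := ENat.ne_top_iff_exists.1 (show a ≠ ⊤ from fun e => h (by rw [← ha, e]; rfl))
    exact ⟨n, ha.symm⟩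
  refine ⟨n, (S0354.result k G _ ho).symm.trans hn, fun z hz => ⟨inferInstance, ?_⟩⟩
  rw [S0354.result k G z hz, ← S0354.result k G _ ho, hn]

/-- points of the unit are the origin -/
theorem point_eq_org {G : Over (Spec (CommRingCat.of k))} [GrpObj G] {V : Over (Spec (CommRingCat.of k))} (v : V.left) : (1 : V ⟶ G).left v = org G := by
  haveI : Subsingleton (Spec (CommRingCat.of k)) := inferInstanceAs (Subsingleton (PrimeSpectrum k))
  rw [Hom.one_def, Over.comp_left, Scheme.Hom.comp_apply]
  exact congrArg η[G].left (Subsingleton.elim (α := Spec (CommRingCat.of k)) _ _)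

/-- no cohomology above the dimension -/
theorem subsingleton_hh_high {X : Scheme.{u}} [CompactSpace X] [QuasiSeparatedSpace X] (g : ℕ)
    (hg : topologicalKrullDim X = g) (M : X.Modules) (p : ℕ) (hp : g < p) : Subsingleton (Coh.HH X M p) :=
  haveI : SpectralSpace X.carrier := {}
  haveI : SpectralSpace (TopCat.of X) := ‹SpectralSpace X.carrier›
  S0469.result (X := TopCat.of X) g hg.le (Coh.toAb M) p hp

variable {A At : Over (Spec (CommRingCat.of k))} [GrpObj A] [IsProper A.hom] [Smooth A.hom]
  [GeometricallyConnected A.hom] [GrpObj At] [IsProper At.hom] [Smooth At.hom] [GeometricallyConnected At.hom]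
  {φ : ∀ T : Over (Spec (CommRingCat.of k)), PicF.Cl (PicF.XT A.hom T) → (T ⟶ At)}
  (hA : AbDual.IsDualAV Scheme.fppfPrecoverage A At φ) (Q : AgSymm.Poincare φ)
  {P : (A ⊗ At).left.Modules} (hP : PicF.IsInvertible P) (hQ : Q.x = PicGrp.cls P hP)
  {P' : (At ⊗ A).left.Modules} (hP' : PicF.IsInvertible P')
  (hQ' : pull (β_ At A).hom.left Q.x = PicGrp.cls P' hP')

include hA hQ in
/-- fibre cohomology of the bundle vanishes off the origin of the dual -/
theorem hvan_snd (y : At.left) (hy : y ∉ ({org At} : Set At.left)) (p : ℕ) :
    Subsingleton (CohIII.fiberH (Limits.pullback.snd A.hom At.hom) P y p) := by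
  haveI : GeometricallyReduced A.hom := Rigid.geometricallyReduced_of_smooth _
  haveI : GeometricallyIntegral A.hom := W7Cube.geometricallyIntegral_grp
  refine fiberH_subsingleton hP ?_ y (fun h => hy ?_) p
  · intro V f g t
    rw [← hQ]
    exact Q.val_mul_left f g t
  · rw [← hQ] at h
    obtain ⟨r, hr⟩ : ∃ r, At.left.fromSpecResidueField y r = y := ⟨IsLocalRing.closedPoint _, Scheme.fromSpecResidueField_apply y _⟩
    exact hr.symm.trans ((congrArg (fun m : resPt At y ⟶ At => m.left r) (eq_one_of_pull hA Q _ h)).trans
      (point_eq_org (G := At) (V := resPt At y) r))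

/-- the swap evaluates by exchanging the arguments -/
lemma val_swap {c : PicLoc.PicSet (A ⊗ At).left} {V : Over (Spec (CommRingCat.of k))} (f : V ⟶ At) (t : V ⟶ A) :
    val (pull (β_ At A).hom.left c) f t = val c t f := by
  change pull (lift f t).left (pull _ c) = pull (lift t f).left c
  rw [pull_pull, ← Over.comp_left, lift_braiding_hom]

include hA hQ' in
/-- fibre cohomology of the swapped bundle vanishes off a finite set of closed points -/
theorem exists_hvan_swap : ∃ Z : Set A.left, Z.Finite ∧ (∀ z ∈ Z, IsClosed ({z} : Set A.left)) ∧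
    ∀ y ∉ Z, ∀ p, Subsingleton (CohIII.fiberH (Limits.pullback.snd At.hom A.hom) P' y p) := by
  obtain ⟨l, hl, -, hs⟩ := exists_symm_finite hA Q
  haveI := hl
  haveI : GeometricallyReduced At.hom := Rigid.geometricallyReduced_of_smooth _
  haveI : GeometricallyIntegral At.hom := W7Cube.geometricallyIntegral_grp
  haveI : JacobsonSpace A.left := LocallyOfFiniteType.jacobsonSpace A.hom
  have ho := isClosed_org At
  have hfin : (l.left ⁻¹' {org At}).Finite := l.left.finite_preimage_singleton _
  refine ⟨l.left ⁻¹' {org At}, hfin, fun z hz => ?_, fun y hy p => ?_⟩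
  · have hc : IsClosed (l.left ⁻¹' {org At}) := ho.preimage l.left.continuous
    haveI : JacobsonSpace ↥(l.left ⁻¹' {org At}) := JacobsonSpace.of_isClosedEmbedding hc.isClosedEmbedding_subtypeVal
    haveI : Finite ↥(l.left ⁻¹' {org At}) := hfin.to_subtype
    simpa using hc.isClosedEmbedding_subtypeVal.isClosedMap _ (isClosed_discrete ({⟨z, hz⟩} : Set ↥(l.left ⁻¹' {org At})))
  · refine fiberH_subsingleton hP' ?_ y (fun h => hy ?_) p
    · intro V f g t
      rw [← hQ', val_swap, val_swap, val_swap]
      exact Q.val_mul_right hA t f g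
    · rw [← hQ'] at h
      let σ := resHom A y
      have h1 : pull (A ◁ (σ ≫ l)).left Q.x = 1 := by
        have h2 : val (pull (β_ At A).hom.left Q.x) (fst A (resPt A y) ≫ l) (snd A (resPt A y) ≫ σ) = 1 := by
          have e := congrArg (pull (lift (fst A (resPt A y) ≫ l) (snd A (resPt A y))).left) h
          rwa [map_one, pull_pull, ← Over.comp_left, lift_whiskerLeft] at e
        rw [val_swap, hs, Category.assoc] at h2
        rw [pull_whiskerLeft]
        exact h2
      obtain ⟨r, hr⟩ : ∃ r, A.left.fromSpecResidueField y r = y := ⟨IsLocalRing.closedPoint _, Scheme.fromSpecResidueField_apply y _⟩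
      have e := congrArg (fun m : resPt A y ⟶ At => m.left r) (eq_one_of_pull hA Q _ h1)
      exact ((congrArg l.left hr).symm.trans e).trans (point_eq_org (G := At) (V := resPt A y) r)

end Groth.Agent.AVMukai
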