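import Groth.Agent.AVMukai.LocalTop
import Groth.Agent.AgVanish.Fibre

/-!
Higher direct images whose fibre cohomology lives at finitely many closed points.
-/

set_option autoImplicit false
set_option backward.isDefEq.respectTransparency false
set_option backward.isDefEq.respectTransparency.types false
set_option linter.style.haveILetI false
set_option linter.unusedSectionVars false
set_option maxHeartbeats 1000000

universe u

open CategoryTheory CategoryTheory.Limits AlgebraicGeometry TopologicalSpace Opposite IsLocalRing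
open Groth.Agent.W7Cech Groth.Agent.FlatCx

noncomputable section

namespace Groth.Agent.AVMukai

variable {X S : Scheme.{u}} (f : X ⟶ S) [IsProper f] [IsLocallyNoetherian S] [HasInjectiveResolutions X.Modules]
  {F : X.Modules} (hF : Coh.IsCoh F) (hfl : FlatMod.IsFlatOver f F)
  (Z : Set S) (hZ : Z.Finite) (hcl : ∀ z ∈ Z, IsClosed ({z} : Set S))
  (hvan : ∀ y : S, y ∉ Z → ∀ p, Subsingleton (CohIII.fiberH f F y p))

include hF hfl hvan in
/-- sections away from the support vanish -/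
theorem sections_zero_away (q : ℕ) (O : S.Opens) (hO : ∀ x ∈ O, x ∉ Z) (s : Γ((Coh.Rpush f q).obj F, O)) : s = 0 :=
  AgVanish.sections_zero_of_fiberH f hF hfl q O (fun y hy => hvan y (hO y hy) q) O le_rfl s

include hF hfl hZ hcl hvan in
/-- finitely supported direct images are flasque -/
theorem isFlasque_rpush (q : ℕ) : RPushQC.IsFlasque ((Coh.Rpush f q).obj F) :=
  AgVanish.isFlasque_of_finite _ Z hZ hcl fun O hO s => sections_zero_away f hF hfl Z hvan q O hO s

include hF hfl hZ hcl hvan in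
/-- their global sections are the cohomology -/
theorem nonempty_top (A : Type u) [CommRing A] [X.Over (Spec (CommRingCat.of A))] (p : ℕ) :
    Nonempty (Γ((Coh.Rpush f p).obj F, ⊤) ≃+ Coh.HH X F p) :=
  AgVanish.nonempty_rpush_top A f F p fun q r =>
    haveI := RPushQC.isFlasque_toAb (isFlasque_rpush f hF hfl Z hZ hcl hvan q)
    SiteCoh.flasque_acyclic (Coh.toAb ((Coh.Rpush f q).obj F)) (⊤ : S.Opens) r

include hF hfl hZ hcl hvan in
/-- sections on an open containing the support are all sections -/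
theorem bijective_res (q : ℕ) {V : S.Opens} (hV : Z ⊆ V) :
    Function.Bijective (QC.res ((Coh.Rpush f q).obj F) (le_top : V ≤ ⊤)) := by
  refine ⟨(injective_iff_map_eq_zero _).2 fun s hs => ?_, isFlasque_rpush f hF hfl Z hZ hcl hvan q le_top⟩
  refine QC.section_eq_of_locally fun x _ => ?_
  by_cases hx : x ∈ V
  · exact ⟨V, le_top, hx, hs.trans (map_zero _).symm⟩
  · let O : S.Opens := ⟨Zᶜ, (by
      rw [← Set.biUnion_of_singleton Z]
      exact hZ.isClosed_biUnion fun z hz => hcl z hz : IsClosed Z).isOpen_compl⟩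
    exact ⟨O, le_top, fun h => hx (hV h), (sections_zero_away f hF hfl Z hvan q O (fun _ h => h) _).trans
      (map_zero _).symm⟩

include hZ hcl in
/-- an affine neighbourhood meeting the support at most at the point -/
theorem exists_affine_single {O : S.Opens} {x : S} (hx : x ∈ O) :
    ∃ V : S.Opens, IsAffineOpen V ∧ x ∈ V ∧ V ≤ O ∧ ∀ y ∈ V, y ∈ Z → y = x := by
  have hC : IsClosed (Z \ {x}) := by
    rw [← Set.biUnion_of_singleton (Z \ {x})]
    exact hZ.diff.isClosed_biUnion fun z hz => hcl z hz.1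
  let C : S.Opens := ⟨(Z \ {x})ᶜ, hC.isOpen_compl⟩
  obtain ⟨V, hV, hxV, hVO⟩ := exists_isAffineOpen_mem_and_subset (X := S) (x := x) (U := O ⊓ C)
    ⟨hx, fun h => h.2 rfl⟩
  exact ⟨V, hV, hxV, fun y hy => (hVO hy).1, fun y hy hyZ => by_contra fun hne => (hVO hy).2 ⟨hyZ, hne⟩⟩

omit [IsProper f] [IsLocallyNoetherian S] [HasInjectiveResolutions X.Modules] in
/-- the localisation at the prime of a point is the stalk -/
theorem nonempty_stalk_equiv {V : S.Opens} (hV : IsAffineOpen V) {z : S} (hz : z ∈ V) :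
    Nonempty (Localization.AtPrime (hV.primeIdealOf ⟨z, hz⟩).asIdeal ≃+* S.presheaf.stalk z) :=
  letI := TopCat.Presheaf.algebra_section_stalk S.presheaf ⟨z, hz⟩
  haveI := hV.isLocalization_stalk ⟨z, hz⟩
  ⟨(IsLocalization.algEquiv (hV.primeIdealOf ⟨z, hz⟩).asIdeal.primeCompl _ _).toRingEquiv⟩

variable [IsProper f] in
omit [IsLocallyNoetherian S] in
include hvan in
/-- ranks vanish off the point -/
theorem dRank_off [LocallyOfFinitePresentation f] {V : S.Opens} {hV : IsAffineOpen V} (m : ModelNN f F hV) {z : S}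
    (hz : z ∈ V) (hzV : ∀ y ∈ V, y ∈ Z → y = z) (n : ℤ) (y : PrimeSpectrum Γ(S, V))
    (hy : y.asIdeal ≠ (hV.primeIdealOf ⟨z, hz⟩).asIdeal) : CohIII.dRank m.L n y = 0 := by
  rcases lt_or_ge n 0 with hn | hn
  · exact (W7Cech.isZero_T_iff_dRank m.L m.hL n y).1 (m.hneg n hn _)
  · obtain ⟨q, rfl⟩ := Int.eq_ofNat_of_zero_le hn
    refine (m.hsub q y).1 (hvan _ (fun h => hy ?_) q)
    have e : hV.fromSpec y = z := hzV _ (hV.range_fromSpec.subset ⟨y, rfl⟩) h
    have e' : hV.fromSpec (hV.primeIdealOf ⟨z, hz⟩) = z := hV.fromSpec_primeIdealOf ⟨z, hz⟩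
    exact congrArg PrimeSpectrum.asIdeal (hV.fromSpec.isOpenEmbedding.injective (e.trans e'.symm))

variable (hFP : CohB1.IsFP F) (g : ℕ) (hreg : ∀ z ∈ Z, IsRegularLocalRing (S.presheaf.stalk z) ∧ ringKrullDim (S.presheaf.stalk z) = g)

include hF hfl hFP hZ hcl hvan hreg in
/-- direct images vanish below the dimension of the base -/
theorem sections_zero_low (n : ℕ) (hn : n < g) (O : S.Opens) (s : Γ((Coh.Rpush f n).obj F, O)) : s = 0 := by
  refine QC.section_eq_of_locally fun x hx => ?_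
  obtain ⟨V, hV, hxV, hVO, hVZ⟩ := exists_affine_single Z hZ hcl hx
  refine ⟨V, hVO, hxV, ?_⟩
  by_cases hxZ : x ∈ Z
  · haveI : LocallyOfFinitePresentation f := InfLift.lfp_of_lft f
    haveI : IsNoetherianRing Γ(S, V) := IsLocallyNoetherian.component_noetherian ⟨V, hV⟩
    obtain ⟨m⟩ := nonempty_ModelNN f hF.1 hFP hfl hV
    haveI := hV.primeIdealOf_isMaximal_of_isClosed ⟨x, hxV⟩ (hcl x hxZ)
    obtain ⟨σ⟩ := nonempty_stalk_equiv hV hxV
    haveI := (hreg x hxZ).1
    haveI : IsRegularLocalRing (Localization.AtPrime (hV.primeIdealOf ⟨x, hxV⟩).asIdeal) :=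
      IsRegularLocalRing.of_ringEquiv σ.symm
    haveI := subsingleton_Hm (hV.primeIdealOf ⟨x, hxV⟩).asIdeal m.L m.hL m.hneg (dRank_off f Z hvan m hxV hVZ) g
      ((ringKrullDim_eq_of_ringEquiv σ).trans (hreg x hxZ).2) n (by exact_mod_cast hn)
    obtain ⟨e⟩ := m.hR n
    haveI : Subsingleton Γ((Coh.Rpush f n).obj F, V) := e.injective.subsingleton
    exact Subsingleton.elim _ _
  · exact (sections_zero_away f hF hfl Z hvan n V (fun y hy hyZ => hxZ (hVZ y hy hyZ ▸ hyZ)) _).trans
      (map_zero _).symm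

include hF hfl hFP hZ hcl hvan hreg in
/-- the cohomology vanishes below the dimension of the base -/
theorem subsingleton_hh_low (A : Type u) [CommRing A] [X.Over (Spec (CommRingCat.of A))] (n : ℕ) (hn : n < g) :
    Subsingleton (Coh.HH X F n) := by
  obtain ⟨e⟩ := nonempty_top f hF hfl Z hZ hcl hvan A n
  haveI : Subsingleton Γ((Coh.Rpush f n).obj F, ⊤) :=
    subsingleton_of_forall_eq 0 (sections_zero_low f hF hfl Z hZ hcl hvan hFP g hreg n hn ⊤)
  exact e.symm.injective.subsingleton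

include hF hfl in
/-- where the fibre cohomology vanishes everywhere so do the direct image and the cohomology -/
theorem sections_zero_all (n : ℕ) (h : ∀ y : S, Subsingleton (CohIII.fiberH f F y n)) (O : S.Opens)
    (s : Γ((Coh.Rpush f n).obj F, O)) : s = 0 :=
  AgVanish.sections_zero_of_fiberH f hF hfl n ⊤ (fun y _ => h y) O le_top s

include hF hfl hcl hvan hreg in
/-- **the residue field at the point in the degree of the dimension** -/
theorem nonempty_sections_residue {V : S.Opens} (hV : IsAffineOpen V) {z : S} (hzV : z ∈ V) (hzZ : z ∈ Z)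
    (hVZ : ∀ y ∈ V, y ∈ Z → y = z) (m : ModelNN f F hV) (Q : ModuleCat.{u} Γ(S, V))
    (η : CohIII.TFun m.L 0 ≅ (linearCoyoneda Γ(S, V) (ModuleCat.{u} Γ(S, V))).obj (op Q)) (a : Γ(S, V))
    (ha : a ∉ (hV.primeIdealOf ⟨z, hzV⟩).asIdeal) (q : Q) (hcyc : ∀ v : Q, ∃ c : Γ(S, V), a • v = c • q)
    (hJ : ∀ j : Γ(S, V), j • q = 0 → j ∈ (hV.primeIdealOf ⟨z, hzV⟩).asIdeal)
    (hkill : ∀ j ∈ (hV.primeIdealOf ⟨z, hzV⟩).asIdeal, ∀ v : Q, ∃ n : ℕ, a ^ n • j • v = 0) :
    Nonempty (Γ((Coh.Rpush f g).obj F, V) ≃ₗ[Γ(S, V)]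
      ResidueField (Localization.AtPrime (hV.primeIdealOf ⟨z, hzV⟩).asIdeal)) := by
  haveI : LocallyOfFinitePresentation f := InfLift.lfp_of_lft f
  haveI : IsNoetherianRing Γ(S, V) := IsLocallyNoetherian.component_noetherian ⟨V, hV⟩
  haveI := hV.primeIdealOf_isMaximal_of_isClosed ⟨z, hzV⟩ (hcl z hzZ)
  obtain ⟨σ⟩ := nonempty_stalk_equiv hV hzV
  haveI := (hreg z hzZ).1
  haveI : IsRegularLocalRing (Localization.AtPrime (hV.primeIdealOf ⟨z, hzV⟩).asIdeal) :=
    IsRegularLocalRing.of_ringEquiv σ.symm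
  obtain ⟨e⟩ := m.hR g
  obtain ⟨e'⟩ := nonempty_Hm_residue (hV.primeIdealOf ⟨z, hzV⟩).asIdeal m.L m.hL m.hneg
    (dRank_off f Z hvan m hzV hVZ) g ((ringKrullDim_eq_of_ringEquiv σ).trans (hreg z hzZ).2) Q η a ha q hcyc hJ hkill
  exact ⟨e.trans e'⟩

end Groth.Agent.AVMukai
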