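import Groth.Agent.AVMukai.Origin
import Groth.Agent.AgVanish.Basic
import Groth.Agent.SupportLib.Unit
import Groth.Agent.TwistOverVan.Basic

/-!
The Poincaré bundle pushes forward to the skyscraper at the origin.
-/

set_option autoImplicit false
set_option backward.isDefEq.respectTransparency false
set_option backward.isDefEq.respectTransparency.types false
set_option linter.style.haveILetI false
set_option linter.unusedSectionVars false
set_option maxHeartbeats 2000000

universe u

open CategoryTheory MonoidalCategory CartesianMonoidalCategory MonObj GrpObj AlgebraicGeometry TopologicalSpace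
open Groth.Agent.W7Cube (pull pull_pull pull_cls)
open Groth.Agent.AbPrim (val pull_val)
open Groth.Agent.W7Cech (ModelNN)

noncomputable section

namespace Groth.Agent.AVMukai

/-- restriction to an open whose preimage is everything -/
lemma map_app_res {X Y : Scheme.{u}} (v : X ⟶ Y) {V : Y.Opens} (h : (⊤ : X.Opens) ≤ v ⁻¹ᵁ V) (c : Γ(Y, ⊤)) :
    (X.presheaf.map (homOfLE h).op).hom ((v.app V).hom (QC.resO Y le_top c)) = v.appTop.hom c := by
  have e := congr(($(Scheme.Hom.map_appLE v h (homOfLE (le_top : V ≤ ⊤)).op)).hom c)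
  simp only [Scheme.Hom.appLE, CommRingCat.comp_apply] at e
  refine e.trans ?_
  simp [Scheme.Hom.appTop]

/-- a quasi-coherent module on a field point with cyclic nonzero sections is the structure module -/
theorem nonempty_iso_structure (k : Type u) [Field k] (N : (Spec (CommRingCat.of k)).Modules) (hN : Coh.IsQCoh N)
    (s : Γ(N, ⊤)) (hs : s ≠ 0) (hgen : ∀ t : Γ(N, ⊤), ∃ c : Γ(Spec (CommRingCat.of k), ⊤), c • s = t) :
    Nonempty (N ≅ Coh.structureModule (Spec (CommRingCat.of k))) := by
  obtain ⟨p, i, hip⟩ := AgVanish.exists_retract k N hN fun h => hs (@Subsingleton.elim _ h _ _)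
  haveI : Subsingleton (Spec (CommRingCat.of k)) := inferInstanceAs (Subsingleton (PrimeSpectrum k))
  have hsur : ∀ t : Γ(N, ⊤), i.app ⊤ (p.app ⊤ t) = t := by
    let o : Γ(Coh.structureModule (Spec (CommRingCat.of k)), ⊤) := (1 : Γ(Spec (CommRingCat.of k), ⊤))
    have hpi : ∀ z, p.app ⊤ (i.app ⊤ z) = z := fun z => congr(($(congrArg (fun m => Scheme.Modules.Hom.app m ⊤) hip)) z)
    have h1 : i.app ⊤ o ≠ 0 := fun h => one_ne_zero (α := Γ(Spec (CommRingCat.of k), ⊤)) (by
      have := hpi o
      rw [h, map_zero] at this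
      exact this.symm)
    obtain ⟨c, hc⟩ := hgen (i.app ⊤ o)
    let e := (Scheme.ΓSpecIso (CommRingCat.of k)).commRingCatIsoToRingEquiv
    have hcu : IsUnit c := by
      have h : e c ≠ 0 := fun h => h1 (by rw [← hc, show c = 0 from e.injective (h.trans (map_zero e).symm), zero_smul])
      simpa using (isUnit_iff_ne_zero.2 h).map e.symm
    intro t
    obtain ⟨d, hd⟩ := hgen t
    have hs' : s = (↑hcu.unit⁻¹ : Γ(Spec (CommRingCat.of k), ⊤)) • i.app ⊤ o := by
      rw [← hc, smul_smul, IsUnit.val_inv_mul, one_smul]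
    rw [← hd, hs']
    simp only [Scheme.Modules.Hom.app_smul, hpi]
  refine ⟨⟨p, i, Scheme.Modules.hom_ext _ _ fun O => ?_, hip⟩⟩
  ext t
  by_cases hO : O = ⊤
  · subst hO
    exact hsur t
  · have : O = ⊥ := by
      refine Opens.ext (Set.eq_empty_of_forall_notMem fun x hx => hO ?_)
      exact Opens.ext (Set.eq_univ_of_forall fun y => Subsingleton.elim x y ▸ hx)
    subst this
    exact QC.section_eq_of_locally fun x hx => hx.elim

/-- quotients of a nontrivial residue field by constants -/
lemma smul_residue_surjective {R : Type u} [CommRing R] (p : Ideal R) [p.IsMaximal] (s : IsLocalRing.ResidueField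
    (Localization.AtPrime p)) (hs : s ≠ 0) (t : IsLocalRing.ResidueField (Localization.AtPrime p)) :
    ∃ c : R, c • s = t := by
  obtain ⟨c, hc⟩ := (Ideal.algebraMap_residueField_surjective p) (t * s⁻¹)
  exact ⟨c, by rw [Algebra.smul_def, show algebraMap R _ c = t * s⁻¹ from hc, inv_mul_cancel_right₀ hs]⟩

/-- the maximal ideal kills the residue field -/
lemma smul_residue_eq_zero {R : Type u} [CommRing R] (p : Ideal R) [p.IsPrime] {c : R} (hc : c ∈ p)
    (t : IsLocalRing.ResidueField (Localization.AtPrime p)) : c • t = 0 := by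
  have h : algebraMap R (IsLocalRing.ResidueField (Localization.AtPrime p)) c = 0 := by
    rw [IsScalarTower.algebraMap_apply R (Localization.AtPrime p)]
    exact (IsLocalRing.residue_eq_zero_iff _).2 ((IsLocalization.AtPrime.to_map_mem_maximal_iff _ p c).2 hc)
  rw [Algebra.smul_def, h, zero_mul]

attribute [local instance] W7Cube.law

variable {k : Type u} [Field k] {A At : Over (Spec (CommRingCat.of k))} [GrpObj A] [IsProper A.hom] [Smooth A.hom]
  [GeometricallyConnected A.hom] [GeometricallyIntegral A.hom] [GrpObj At] [IsProper At.hom] [Smooth At.hom]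
  [GeometricallyConnected At.hom] [GeometricallyIntegral At.hom] [IsLocallyNoetherian At.left]
  [IsLocallyNoetherian A.left]
  [LocallyOfFiniteType (Limits.pullback.snd A.hom At.hom)]
  {φ : ∀ T : Over (Spec (CommRingCat.of k)), PicF.Cl (PicF.XT A.hom T) → (T ⟶ At)}
  (hA : AbDual.IsDualAV Scheme.fppfPrecoverage A At φ) (Q : AgSymm.Poincare φ)
  {P : (A ⊗ At).left.Modules} (hP : PicF.IsInvertible P) (hQ : Q.x = PicGrp.cls P hP)
  [HasInjectiveResolutions (A ⊗ At).left.Modules]

/-- coherence of an invertible module -/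
lemma isCoh_inv {X : Scheme.{u}} {M : X.Modules} (hM : PicF.IsInvertible M) : Coh.IsCoh M :=
  ⟨TMul.isQCoh_of_isInvertible hM, TMul.isFT_of_isInvertible hM⟩

include hA hQ in
/-- the residue field at the origin -/
theorem exists_top_residue (g' : ℕ) (hg' : topologicalKrullDim At.left = g') {V : At.left.Opens} (hV : IsAffineOpen V)
    (hoV : org At ∈ V) :
    Nonempty (Γ((Coh.Rpush (Limits.pullback.snd A.hom At.hom) g').obj P, V) ≃ₗ[Γ(At.left, V)]
      IsLocalRing.ResidueField (Localization.AtPrime (hV.primeIdealOf ⟨org At, hoV⟩).asIdeal)) := by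
  obtain ⟨C, a, ha, hcyc, hJ, hkill⟩ := exists_cyc_org hA Q hP hQ hV hoV
  obtain ⟨n, hn, hreg⟩ := exists_dim At
  obtain rfl : n = g' := by exact_mod_cast hn.symm.trans hg'
  exact nonempty_sections_residue (Limits.pullback.snd A.hom At.hom) (isCoh_inv hP)
    (W7Hull.isFlatOver_of_isInvertible _ hP) {org At} (fun z hz => hz ▸ isClosed_org At) (hvan_snd hA Q hP hQ) n
    (fun z hz => hreg z (hz ▸ isClosed_org At)) hV hoV rfl (fun _ _ h => h) C.m C.Q C.η a ha C.q hcyc hJ hkill

include hA hQ in
/-- below the dimension of the dual nothing survives -/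
theorem sections_zero_below (g' : ℕ) (hg' : topologicalKrullDim At.left = g') (n : ℕ) (hn : n < g')
    (O : At.left.Opens) (s : Γ((Coh.Rpush (Limits.pullback.snd A.hom At.hom) n).obj P, O)) : s = 0 := by
  obtain ⟨m, hm, hreg⟩ := exists_dim At
  obtain rfl : m = g' := by exact_mod_cast hm.symm.trans hg'
  exact sections_zero_low (Limits.pullback.snd A.hom At.hom) (isCoh_inv hP) (W7Hull.isFlatOver_of_isInvertible _ hP)
    {org At} (Set.finite_singleton _) (fun z hz => hz ▸ isClosed_org At) (hvan_snd hA Q hP hQ)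
    (W7Hull.isFP_of_isInvertible hP) m (fun z hz => hreg z (hz ▸ isClosed_org At)) n hn O s

include hA hQ in
/-- above the dimension of the abelian variety nothing survives -/
theorem sections_zero_above (g : ℕ) (hg : topologicalKrullDim A.left = g) (n : ℕ) (hn : g < n)
    (O : At.left.Opens) (s : Γ((Coh.Rpush (Limits.pullback.snd A.hom At.hom) n).obj P, O)) : s = 0 := by
  haveI : CompactSpace A.left := QuasiCompact.compactSpace_of_compactSpace A.hom
  haveI : QuasiSeparatedSpace A.left := quasiSeparatedSpace_of_quasiSeparated A.hom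
  refine sections_zero_all (Limits.pullback.snd A.hom At.hom) (isCoh_inv hP)
    (W7Hull.isFlatOver_of_isInvertible _ hP) n (fun y => ?_) O s
  by_cases hy : y = org At
  · subst hy
    exact (AgVanish.fiberH_iff (A := A) (W := At) P (TMul.isQCoh_of_isInvertible hP) η[At] n).2
      (subsingleton_hh_high g hg _ n hn)
  · exact hvan_snd hA Q hP hQ y hy n

include hA hQ in
/-- global sections are sections near the origin -/
theorem bijective_res_org (q : ℕ) {V : At.left.Opens} (hoV : org At ∈ V) :
    Function.Bijective (QC.res ((Coh.Rpush (Limits.pullback.snd A.hom At.hom) q).obj P) (le_top : V ≤ ⊤)) :=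
  bijective_res (Limits.pullback.snd A.hom At.hom) (isCoh_inv hP) (W7Hull.isFlatOver_of_isInvertible _ hP)
    {org At} (Set.finite_singleton _) (fun z hz => hz ▸ isClosed_org At) (hvan_snd hA Q hP hQ) q
    (Set.singleton_subset_iff.2 hoV)

include hA hQ in
/-- global sections compute the cohomology linearly -/
theorem exists_top_linear (q : ℕ) :
    letI : (Limits.pullback A.hom At.hom).Over (Spec (CommRingCat.of k)) := ⟨Limits.pullback.fst A.hom At.hom ≫ A.hom⟩
    ∃ e : Γ((Coh.Rpush (Limits.pullback.snd A.hom At.hom) q).obj P, ⊤) ≃+ Coh.HH (Limits.pullback A.hom At.hom) P q,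
      ∀ (a : k) (s : Γ((Coh.Rpush (Limits.pullback.snd A.hom At.hom) q).obj P, ⊤)),
        e ((show Γ(At.left, ⊤) from Coh.toGlobal At.hom a) • s) = a • e s := by
  letI : (Limits.pullback A.hom At.hom).Over (Spec (CommRingCat.of k)) := ⟨Limits.pullback.fst A.hom At.hom ≫ A.hom⟩
  exact exists_rpush_top_linear k (Limits.pullback.snd A.hom At.hom) P q (fun r n =>
    haveI := RPushQC.isFlasque_toAb (isFlasque_rpush (Limits.pullback.snd A.hom At.hom) (isCoh_inv hP)
      (W7Hull.isFlatOver_of_isInvertible _ hP) {org At} (Set.finite_singleton _) (fun z hz => hz ▸ isClosed_org At)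
      (hvan_snd hA Q hP hQ) r)
    SiteCoh.flasque_acyclic (Coh.toAb _) (⊤ : At.left.Opens) n) At.hom Limits.pullback.condition.symm

include hA hQ in
/-- cohomology vanishes where the direct image does -/
theorem subsingleton_hh (q : ℕ)
    (h : ∀ s : Γ((Coh.Rpush (Limits.pullback.snd A.hom At.hom) q).obj P, ⊤), s = 0) :
    Subsingleton (Coh.HH (A ⊗ At).left P q) := by
  obtain ⟨e, -⟩ := exists_top_linear hA Q hP hQ q
  haveI : Subsingleton Γ((Coh.Rpush (Limits.pullback.snd A.hom At.hom) q).obj P, ⊤) := subsingleton_of_forall_eq 0 h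
  exact e.symm.injective.subsingleton

include hA hQ in
/-- the cohomology in the degree of the dual dimension is nonzero -/
theorem not_subsingleton_top (g' : ℕ) (hg' : topologicalKrullDim At.left = g') :
    ¬ Subsingleton (Coh.HH (A ⊗ At).left P g') := fun h => by
  obtain ⟨e, -⟩ := exists_top_linear hA Q hP hQ g'
  obtain ⟨V, hV, hoV, -⟩ := exists_isAffineOpen_mem_and_subset (X := At.left) (x := org At) (U := ⊤) trivial
  obtain ⟨E⟩ := exists_top_residue hA Q hP hQ g' hg' hV hoV
  haveI : Subsingleton (Coh.HH (Limits.pullback A.hom At.hom) P g') := h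
  haveI : Subsingleton Γ((Coh.Rpush (Limits.pullback.snd A.hom At.hom) g').obj P, ⊤) := e.injective.subsingleton
  haveI : Subsingleton Γ((Coh.Rpush (Limits.pullback.snd A.hom At.hom) g').obj P, V) :=
    (bijective_res_org hA Q hP hQ g' hoV).2.subsingleton
  exact not_subsingleton (IsLocalRing.ResidueField (Localization.AtPrime (hV.primeIdealOf ⟨org At, hoV⟩).asIdeal))
    E.symm.injective.subsingleton

include hA hQ in
/-- **the dual has the same dimension** -/
theorem dim_eq (g : ℕ) (hg : topologicalKrullDim A.left = g) : topologicalKrullDim At.left = g := by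
  obtain ⟨g', hg', -⟩ := exists_dim At
  rcases lt_trichotomy g' g with hlt | rfl | hgt
  · let β := β_ At A
    haveI : IsIso β.hom.left := inferInstanceAs (IsIso ((Over.forget _).map β.hom))
    let P' := (Scheme.Modules.pullback β.hom.left).obj P
    have hP' : PicF.IsInvertible P' := PicLoc.isInvertible_pullback _ hP
    obtain ⟨Z, hZ, hcl, hvan⟩ := exists_hvan_swap hA Q hP' (by rw [hQ, pull_cls])
    obtain ⟨m, hm, hreg⟩ := exists_dim A
    obtain rfl : m = g := by exact_mod_cast hm.symm.trans hg
    haveI : HasInjectiveResolutions (At ⊗ A).left.Modules := inferInstance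
    letI : (Limits.pullback At.hom A.hom).Over (Spec (CommRingCat.of k)) := ⟨Limits.pullback.fst At.hom A.hom ≫ At.hom⟩
    have h1 := subsingleton_hh_low (Limits.pullback.snd At.hom A.hom) (isCoh_inv hP')
      (W7Hull.isFlatOver_of_isInvertible _ hP') Z hZ hcl hvan (W7Hull.isFP_of_isInvertible hP') m
      (fun z hz => hreg z (hcl z hz)) k g' hlt
    refine absurd ?_ (not_subsingleton_top hA Q hP hQ g' hg')
    refine CohQC.hh_subsingleton_of_iso ?_ g' (TwistOverVan.subsingleton_hh_pullback_iso β.inv.left P'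
      (TMul.isQCoh_of_isInvertible hP') g' h1)
    exact (Scheme.Modules.pullbackComp β.inv.left β.hom.left).app P ≪≫
      (Scheme.Modules.pullbackCongr (by rw [← Over.comp_left, β.inv_hom_id, Over.id_left] :
        β.inv.left ≫ β.hom.left = 𝟙 _)).app P ≪≫ (Scheme.Modules.pullbackId _).app P
  · exact hg'
  · exact absurd (subsingleton_hh hA Q hP hQ g' (sections_zero_above hA Q hP hQ g hg g' hgt ⊤))
      (not_subsingleton_top hA Q hP hQ g' hg')

include hA hQ in
/-- the ideal of the origin kills the top direct image -/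
theorem ker_smul_eq_zero (g : ℕ) (hg : topologicalKrullDim At.left = g) (U : At.left.affineOpens) (a : Γ(At.left, U.1))
    (ha : a ∈ η[At].left.ker.ideal U) (s : Γ((Coh.Rpush (Limits.pullback.snd A.hom At.hom) g).obj P, U.1)) :
    a • s = 0 := by
  rw [Scheme.Hom.ker_apply] at ha
  refine QC.section_eq_of_locally fun x hx => ?_
  by_cases hxo : x = org At
  · subst hxo
    obtain ⟨V, hV, hoV, hVU⟩ := exists_isAffineOpen_mem_and_subset (X := At.left) (x := org At) (U := U.1) hx
    refine ⟨V, hVU, hoV, ?_⟩
    rw [QC.res_smul, map_zero]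
    obtain ⟨E⟩ := exists_top_residue hA Q hP hQ g hg hV hoV
    have hmem : QC.resO At.left hVU a ∈ (hV.primeIdealOf ⟨org At, hoV⟩).asIdeal := by
      by_contra hne
      have h1 : org At ∈ At.left.basicOpen a := by
        have := (WeakAssLib.mem_primeIdealOf hV hoV _).2 hne
        rw [QC.resO, Scheme.basicOpen_res] at this
        exact this.2
      have h2 : IsLocalRing.closedPoint k ∈ η[At].left ⁻¹ᵁ At.left.basicOpen a := h1
      have h3 : (η[At].left.app U.1).hom a = 0 := RingHom.mem_ker.1 ha
      rw [Scheme.preimage_basicOpen, h3, Scheme.basicOpen_zero] at h2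
      exact h2.elim
    exact E.injective (by rw [map_smul, smul_residue_eq_zero _ hmem, map_zero])
  · let O : At.left.Opens := ⟨{org At}ᶜ, (isClosed_org At).isOpen_compl⟩
    refine ⟨U.1 ⊓ O, inf_le_left, ⟨hx, hxo⟩, ?_⟩
    exact (sections_zero_away (Limits.pullback.snd A.hom At.hom) (isCoh_inv hP)
      (W7Hull.isFlatOver_of_isInvertible _ hP) {org At} (hvan_snd hA Q hP hQ) g _ (fun y (hy : y ∈ (U.1 ⊓ O : At.left.Opens)) => hy.2) _).trans
        (map_zero _).symm

include hA hQ in
/-- constants generate the top sections -/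
theorem exists_generator (g : ℕ) (hg : topologicalKrullDim At.left = g) :
    ∃ s : Γ((Coh.Rpush (Limits.pullback.snd A.hom At.hom) g).obj P, ⊤), s ≠ 0 ∧
      ∀ t, ∃ a : k, (show Γ(At.left, ⊤) from Coh.toGlobal At.hom a) • s = t := by
  obtain ⟨V, hV, hoV, -⟩ := exists_isAffineOpen_mem_and_subset (X := At.left) (x := org At) (U := ⊤) trivial
  haveI := hV.primeIdealOf_isMaximal_of_isClosed ⟨org At, hoV⟩ (isClosed_org At)
  obtain ⟨E⟩ := exists_top_residue hA Q hP hQ g hg hV hoV
  have hb := bijective_res_org hA Q hP hQ g hoV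
  obtain ⟨s, hs⟩ := hb.2 (E.symm 1)
  refine ⟨s, fun h => one_ne_zero (α := IsLocalRing.ResidueField _) (E.symm.injective (hs.symm.trans
    (by rw [h, map_zero, map_zero]))), fun t => ?_⟩
  obtain ⟨c, hc⟩ := smul_residue_surjective _ 1 one_ne_zero (E (QC.res _ le_top t))
  let a : k := (Scheme.ΓSpecIso (CommRingCat.of k)).hom.hom
    ((Spec (CommRingCat.of k)).presheaf.map (homOfLE (le_of_eq (by
      refine Opens.ext (Set.eq_univ_of_forall fun x => ?_).symm
      rw [show x = IsLocalRing.closedPoint k from Subsingleton.elim (α := PrimeSpectrum k) _ _]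
      exact hoV : (⊤ : (Spec (CommRingCat.of k)).Opens) = η[At].left ⁻¹ᵁ V))).op ((η[At].left.app V).hom c))
  refine ⟨a, hb.1 ?_⟩
  rw [QC.res_smul, hs]
  refine E.injective ?_
  rw [map_smul, E.apply_symm_apply, ← hc, ← sub_eq_zero, ← sub_smul]
  refine smul_residue_eq_zero _ ?_ _
  by_contra hne
  have h1 : η[At].left (IsLocalRing.closedPoint k) ∈ At.left.basicOpen
      (QC.resO At.left le_top (Coh.toGlobal At.hom a) - c) := (WeakAssLib.mem_primeIdealOf hV hoV _).2 hne
  have h3 : (η[At].left.app V).hom (QC.resO At.left le_top (Coh.toGlobal At.hom a) - c) = 0 := by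
    rw [map_sub, sub_eq_zero]
    have hVtop : η[At].left ⁻¹ᵁ V = ⊤ := by
      refine Opens.ext (Set.eq_univ_of_forall fun x => ?_)
      rw [show x = IsLocalRing.closedPoint k from Subsingleton.elim (α := PrimeSpectrum k) _ _]
      exact hoV
    haveI : IsIso (homOfLE (le_of_eq hVtop.symm)) :=
      ⟨homOfLE (le_of_eq hVtop), Subsingleton.elim _ _, Subsingleton.elim _ _⟩
    refine (ConcreteCategory.bijective_of_isIso
      ((Spec (CommRingCat.of k)).presheaf.map (homOfLE (le_of_eq hVtop.symm)).op)).1 ?_
    have e1 : ((Spec (CommRingCat.of k)).presheaf.map (homOfLE (le_of_eq hVtop.symm)).op).hom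
        ((η[At].left.app V).hom (QC.resO At.left le_top (Coh.toGlobal At.hom a))) =
          (η[At].left ≫ At.hom).appTop.hom ((Scheme.ΓSpecIso (CommRingCat.of k)).inv.hom a) := by
      refine (map_app_res η[At].left _ (Coh.toGlobal At.hom a)).trans ?_
      rfl
    refine e1.trans ?_
    have e2 : (η[At].left ≫ At.hom).appTop = 𝟙 _ := by
      rw [Over.w η[At]]
      exact Scheme.Hom.id_appTop
    rw [e2]
    exact congr(($((Scheme.ΓSpecIso (CommRingCat.of k)).hom_inv_id)).hom _)
  have h2 : IsLocalRing.closedPoint k ∈ η[At].left ⁻¹ᵁ At.left.basicOpen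
      (QC.resO At.left le_top (Coh.toGlobal At.hom a) - c) := h1
  rw [Scheme.preimage_basicOpen, h3, Scheme.basicOpen_zero] at h2
  exact h2.elim

include hA hQ in
/-- **the cohomology in top degree is a line** -/
theorem finrank_top (g : ℕ) (hg : topologicalKrullDim At.left = g) :
    letI : (Limits.pullback A.hom At.hom).Over (Spec (CommRingCat.of k)) := ⟨Limits.pullback.fst A.hom At.hom ≫ A.hom⟩
    Module.finrank k (Coh.HH (Limits.pullback A.hom At.hom) P g) = 1 := by
  letI : (Limits.pullback A.hom At.hom).Over (Spec (CommRingCat.of k)) := ⟨Limits.pullback.fst A.hom At.hom ≫ A.hom⟩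
  obtain ⟨e, he⟩ := exists_top_linear hA Q hP hQ g
  obtain ⟨s, hs, hgen⟩ := exists_generator hA Q hP hQ g hg
  refine finrank_eq_one (e s) (fun h => hs (e.injective (h.trans (map_zero e).symm))) fun w => ?_
  obtain ⟨a, ha⟩ := hgen (e.symm w)
  exact ⟨a, by rw [← he, ha, e.apply_symm_apply]⟩

include hA hQ in
/-- **the skyscraper at the origin** -/
theorem nonempty_skyscraper (g : ℕ) (hg : topologicalKrullDim At.left = g) :
    Nonempty ((Coh.Rpush (Limits.pullback.snd A.hom At.hom) g).obj P ≅
      (Coh.push η[At].left).obj (Coh.structureModule (Spec (CommRingCat.of k)))) := by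
  haveI : IsClosedImmersion η[At].left := by
    haveI : IsClosedImmersion (η[At].left ≫ At.hom) := by
      rw [Over.w η[At]]
      exact inferInstanceAs (IsClosedImmersion (𝟙 (Spec (CommRingCat.of k))))
    exact IsClosedImmersion.of_comp η[At].left At.hom
  let G := (Coh.Rpush (Limits.pullback.snd A.hom At.hom) g).obj P
  let N : (Spec (CommRingCat.of k)).Modules := (Scheme.Modules.pullback η[At].left).obj G
  haveI := (SupportLib.isIso_unit_iff η[At].left G).2 (ker_smul_eq_zero hA Q hP hQ g hg)
  let u := (Scheme.Modules.pullbackPushforwardAdjunction η[At].left).unit.app G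
  have hN : Coh.IsQCoh N := QC.isQCoh_pullback η[At].left
    (RPushQC.isQCoh_rpush _ P (TMul.isQCoh_of_isInvertible hP) g)
  obtain ⟨s, hs, hgen⟩ := exists_generator hA Q hP hQ g hg
  have hu := ConcreteCategory.bijective_of_isIso (u.app ⊤)
  let s' : Γ(N, ⊤) := u.app ⊤ s
  obtain ⟨i⟩ := nonempty_iso_structure k N hN s' (fun h => hs (hu.1 (h.trans (map_zero _).symm))) fun t => by
    obtain ⟨t₀, ht₀⟩ := hu.2 t
    obtain ⟨a, ha⟩ := hgen t₀
    exact ⟨(η[At].left.app ⊤).hom (Coh.toGlobal At.hom a), by
      rw [← ht₀, ← ha, Scheme.Modules.Hom.app_smul]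
      rfl⟩
  exact ⟨asIso u ≪≫ (Scheme.Modules.pushforward η[At].left).mapIso i⟩

end Groth.Agent.AVMukai
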