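import Groth.Agent.DQPush.Acyclic
import Groth.Agent.RPushSite.SingleHomology

/-!
Derived direct images concentrated in one degree.
-/

set_option autoImplicit false
set_option backward.isDefEq.respectTransparency false
set_option backward.isDefEq.respectTransparency.types false
set_option linter.style.haveILetI false

universe u

open CategoryTheory CategoryTheory.Limits AlgebraicGeometry

attribute [local instance] HasDerivedCategory.standard

noncomputable section

namespace Groth.Agent.AVMukai

/-- **a direct image concentrated in one degree** -/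
theorem nonempty_rpush_shift {X Y : Scheme.{u}} (f : X ⟶ Y) [DCoh.HasRpush f] [HasInjectiveResolutions X.Modules]
    (M : X.Modules) (H : Y.Modules) (g : ℕ) (hzero : ∀ n : ℕ, n ≠ g → IsZero ((Coh.Rpush f n).obj M))
    (hg : Nonempty ((Coh.Rpush f g).obj M ≅ H)) :
    Nonempty ((DCoh.Rpush f).obj (DCoh.inD X M) ≅ (shiftFunctor (DCoh.D Y) (-(g : ℤ))).obj (DCoh.inD Y H)) := by
  haveI : SiteCmp.HasRpushD (ModSite.RMor.ofScheme f) := ‹DCoh.HasRpush f›
  haveI : HasInjectiveResolutions (ModSite.Mod X.sheaf) := ‹HasInjectiveResolutions X.Modules›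
  let E : DerivedCategory Y.Modules := (DCoh.Rpush f).obj (DCoh.inD X M)
  have hh : ∀ n : ℕ, Nonempty ((DerivedCategory.homologyFunctor Y.Modules (n : ℤ)).obj E ≅ (Coh.Rpush f n).obj M) :=
    fun n => RPushSite.nonempty_homology_single (ModSite.RMor.ofScheme f) M n
  have hz : ∀ n : ℤ, n ≠ g → IsZero ((DerivedCategory.homologyFunctor Y.Modules n).obj E) := fun n hn => by
    rcases lt_or_ge n 0 with h | h
    · exact RPushSite.isZero_homology_single_neg (ModSite.RMor.ofScheme f) M n h
    · obtain ⟨m, rfl⟩ := Int.eq_ofNat_of_zero_le h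
      exact (hzero m fun e => hn (by rw [e])).of_iso (hh m).some
  haveI : E.IsGE (g : ℤ) := (DerivedCategory.isGE_iff E _).2 fun i hi => hz i (ne_of_lt hi)
  haveI : E.IsLE (g : ℤ) := (DerivedCategory.isLE_iff E _).2 fun i hi => hz i (ne_of_gt hi)
  obtain ⟨N, ⟨e⟩⟩ := DerivedCategory.exists_iso_singleFunctor_obj_of_isGE_of_isLE E (g : ℤ)
  let i : N ≅ H := ((DerivedCategory.singleFunctorCompHomologyFunctorIso Y.Modules (g : ℤ)).app N).symm ≪≫
    (DerivedCategory.homologyFunctor Y.Modules (g : ℤ)).mapIso e.symm ≪≫ (hh g).some ≪≫ hg.some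
  exact ⟨e ≪≫ (DerivedCategory.singleFunctor Y.Modules (g : ℤ)).mapIso i ≪≫
    (((DerivedCategory.singleFunctors Y.Modules).shiftIso (-(g : ℤ)) (g : ℤ) 0 (neg_add_cancel _)).app H).symm⟩

end Groth.Agent.AVMukai
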