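import Groth.Agent.AVMukai.Inverse

/-!
Mukai's equivalence.
-/

set_option autoImplicit false
set_option backward.isDefEq.respectTransparency false
set_option backward.isDefEq.respectTransparency.types false
set_option linter.style.haveILetI false
set_option linter.unusedSectionVars false
set_option maxHeartbeats 2000000

universe u

open CategoryTheory Limits AlgebraicGeometry

attribute [local instance] HasDerivedCategory.standard

noncomputable section

namespace Groth.Agent.AVMukai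

/-- the transform with an invertible kernel preserves quasi-coherence -/
lemma isQCohD_transform {X Y Z : Scheme.{u}} (p : Z ⟶ X) (q : Z ⟶ Y) [QuasiCompact q] [QuasiSeparated q]
    {P : Z.Modules} (hP : PicF.IsInvertible P) [DCoh.HasLpull p] [DCoh.HasLTensorMod P] [DCoh.HasRpush q]
    (E : DCoh.D X) (hE : DCoh.IsQCohD E) :
    DCoh.IsQCohD ((DCoh.Lpull p ⋙ DCoh.LTensorMod P ⋙ DCoh.Rpush q).obj E) :=
  DQPush.isQCohD_rpush q (FMTool.isQCohD_ltmod hP _ (DQCoh.isQCohD_Lpull p E hE))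

/-- a composite isomorphic to a shifted pull back along an involution is an equivalence on the quasi-coherent part -/
theorem isEquivalence_composite {X Y : Scheme.{u}} (Φ : DCoh.D X ⥤ DCoh.D Y) (Ψ : DCoh.D Y ⥤ DCoh.D X)
    (hΦ : ∀ E, DCoh.IsQCohD E → DCoh.IsQCohD (Φ.obj E)) (hΨ : ∀ E, DCoh.IsQCohD E → DCoh.IsQCohD (Ψ.obj E))
    (h : X ⟶ X) (hh : h ≫ h = 𝟙 X) [DCoh.HasRpush h] (n : ℤ)
    (e : Nonempty (ObjectProperty.ι (DCoh.IsQCohD (X := X)) ⋙ Φ ⋙ Ψ ≅
      ObjectProperty.ι (DCoh.IsQCohD (X := X)) ⋙ DCoh.Rpush h ⋙ shiftFunctor (DCoh.D X) n)) :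
    ((ObjectProperty.lift (DCoh.IsQCohD (X := Y)) (ObjectProperty.ι (DCoh.IsQCohD (X := X)) ⋙ Φ)
        (fun M => hΦ M.obj M.property)) ⋙
      (ObjectProperty.lift (DCoh.IsQCohD (X := X)) (ObjectProperty.ι (DCoh.IsQCohD (X := Y)) ⋙ Ψ)
        (fun M => hΨ M.obj M.property))).IsEquivalence := by
  obtain ⟨e⟩ := e
  haveI := KFlat.hasLpull h
  obtain ⟨r⟩ := nonempty_rpush_invol h hh
  obtain ⟨i⟩ := FMTool.nonempty_lpull_section hh
  haveI : (DCoh.Lpull h).IsEquivalence :=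
    (CategoryTheory.Equivalence.mk (DCoh.Lpull h) (DCoh.Lpull h) i.symm i).isEquivalence_functor
  let ι := ObjectProperty.ι (DCoh.IsQCohD (X := X))
  let K := DCoh.Lpull h ⋙ shiftFunctor (DCoh.D X) n
  haveI : K.IsEquivalence := Functor.isEquivalence_trans _ _
  let F := (ObjectProperty.lift (DCoh.IsQCohD (X := Y)) (ι ⋙ Φ) (fun M => hΦ M.obj M.property)) ⋙
    (ObjectProperty.lift (DCoh.IsQCohD (X := X)) (ObjectProperty.ι (DCoh.IsQCohD (X := Y)) ⋙ Ψ)
      (fun M => hΨ M.obj M.property))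
  let eF : F ⋙ ι ≅ ι ⋙ K := (Iso.refl _ : F ⋙ ι ≅ ι ⋙ Φ ⋙ Ψ) ≪≫ e ≪≫
    Functor.isoWhiskerLeft ι (Functor.isoWhiskerRight r _)
  haveI : (F ⋙ ι).Faithful := Functor.Faithful.of_iso eF.symm
  haveI : (F ⋙ ι).Full := Functor.Full.of_iso eF.symm
  haveI : F.Faithful := Functor.Faithful.of_comp F ι
  haveI : F.Full := Functor.Full.of_comp_faithful F ι
  haveI : F.EssSurj := ⟨fun E => by
    let E' := (DCoh.Lpull h).obj ((shiftFunctor (DCoh.D X) (-n)).obj E.obj)
    have hE' : DCoh.IsQCohD E' := DQCoh.isQCohD_Lpull h _ (PerfGen.isQCohD_shift E.property (-n))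
    exact ⟨⟨E', hE'⟩, ⟨ι.preimageIso (eF.app ⟨E', hE'⟩ ≪≫
      (shiftFunctor (DCoh.D X) n).mapIso (i.app _) ≪≫ (shiftFunctorCompIsoId (DCoh.D X) (-n) n (by omega)).app E.obj)⟩⟩⟩
  exact { }

/-- functors with both composites equivalences are equivalences -/
theorem isEquivalence_of_composites {C D : Type*} [Category* C] [Category* D] (F : C ⥤ D) (G : D ⥤ C)
    [(F ⋙ G).IsEquivalence] [(G ⋙ F).IsEquivalence] : F.IsEquivalence := by
  haveI : F.Faithful := Functor.Faithful.of_comp F G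
  haveI : G.Faithful := Functor.Faithful.of_comp G F
  haveI : F.Full := Functor.Full.of_comp_faithful F G
  haveI : F.EssSurj := ⟨fun c => ⟨G.obj ((G ⋙ F).objPreimage c), ⟨(G ⋙ F).objObjPreimageIso c⟩⟩⟩
  exact { }

end Groth.Agent.AVMukai
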