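import Groth.Agent.FMTool.AV
import Groth.Agent.AgSymm.Fibre
import Groth.Agent.AgVanish.Fibre
import Groth.Agent.TwistOverVan.Basic
import Groth.Agent.W7Cube.Group
import Groth.Agent.S7804

/-!
Fibre cohomology of families of additive classes.
-/

set_option autoImplicit false
set_option backward.isDefEq.respectTransparency false
set_option backward.isDefEq.respectTransparency.types false
set_option linter.style.haveILetI false
set_option linter.unusedSectionVars false
set_option maxHeartbeats 1000000

universe u

open CategoryTheory MonoidalCategory CartesianMonoidalCategory MonObj GrpObj AlgebraicGeometry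
open Groth.Agent.W7Cube (pull pull_pull pull_cls pc)
open Groth.Agent.AbPrim (val pull_val)

noncomputable section

namespace Groth.Agent.AVMukai

attribute [local instance] W7Cube.law

variable {k : Type u} [Field k] {A T : Over (Spec (CommRingCat.of k))} [GrpObj A] [IsProper A.hom]
  [Smooth A.hom] [GeometricallyConnected A.hom] [GeometricallyIntegral A.hom]

/-- additivity of a family in the group variable -/
def IsAdditive (c : PicLoc.PicSet (A ⊗ T).left) : Prop :=
  ∀ {V : Over (Spec (CommRingCat.of k))} (f g : V ⟶ A) (t : V ⟶ T), val c (f * g) t = val c f t * val c g t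

variable (T) in
/-- the residue point -/
abbrev resPt (y : T.left) : Over (Spec (CommRingCat.of k)) := Over.mk (T.left.fromSpecResidueField y ≫ T.hom)

variable (T) in
/-- the residue point of `y`, as a point -/
abbrev resHom (y : T.left) : resPt T y ⟶ T := Over.homMk (T.left.fromSpecResidueField y) rfl

/-- a nontrivial additive class has no cohomology on the fibre -/
theorem fiberH_subsingleton {M : (A ⊗ T).left.Modules} (hM : PicF.IsInvertible M)
    (hadd : IsAdditive (PicGrp.cls M hM)) (y : T.left)
    (hne : pull (A ◁ resHom T y).left (PicGrp.cls M hM) ≠ 1) (p : ℕ) :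
    Subsingleton (CohIII.fiberH (Limits.pullback.snd A.hom T.hom) M y p) := by
  haveI : IsCommMonObj A := isCommMonObj_of_isProper_of_geometricallyIntegral A
  let τ := T.left.fromSpecResidueField y ≫ T.hom
  let X := Red.bc τ A
  let g : X.left ⟶ (A ⊗ T).left := (A ◁ resHom T y).left
  let N := (Scheme.Modules.pullback g).obj M
  have hN : PicF.IsInvertible N := PicLoc.isInvertible_pullback g hM
  haveI : IsProper X.hom := inferInstanceAs (IsProper (Limits.pullback.snd A.hom τ))
  haveI : GeometricallyIntegral X.hom := inferInstanceAs (GeometricallyIntegral (Limits.pullback.snd A.hom τ))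
  -- restrictions to points of the fibre
  let t : ∀ U : Over (Spec (CommRingCat.of (T.left.residueField y))), (Over.map τ).obj U ⟶ resPt T y :=
    fun U => Over.homMk U.hom rfl
  have hpc : ∀ {U : Over (Spec (CommRingCat.of (T.left.residueField y)))} (f : U ⟶ X),
      pull f.left (PicGrp.cls N hN) = val (PicGrp.cls M hM) (AgSymm.toBase τ f) (t U ≫ resHom T y) := by
    intro U f
    rw [← pull_cls g M hM, pull_pull]
    refine congrArg (fun m => pull m (PicGrp.cls M hM)) ?_
    refine Limits.pullback.hom_ext ?_ ?_
    · rw [Category.assoc, show g ≫ Limits.pullback.fst A.hom T.hom = Limits.pullback.fst A.hom τ from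
        congrArg (fun m => m.left) (whiskerLeft_fst A (resHom T y))]
      exact ((congrArg (fun m => m.left) (lift_fst (AgSymm.toBase τ f) (t U ≫ resHom T y))).trans
        (AgSymm.toBase_left τ f)).symm
    · rw [Category.assoc, show g ≫ Limits.pullback.snd A.hom T.hom = Limits.pullback.snd A.hom τ ≫ (resHom T y).left
        from congrArg (fun m => m.left) (whiskerLeft_snd A (resHom T y))]
      refine Eq.trans ?_ (congrArg (fun m => m.left) (lift_snd (AgSymm.toBase τ f) (t U ≫ resHom T y))).symm
      rw [← Category.assoc]
      exact congrArg (· ≫ (resHom T y).left) (Over.w f)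
  have hmul : Nonempty ((Scheme.Modules.pullback μ[X].left).obj N ≅
      CohB1.tensorMod ((Scheme.Modules.pullback (fst X X).left).obj N) ((Scheme.Modules.pullback (snd X X).left).obj N)) := by
    have h : pull μ[X].left (PicGrp.cls N hN) =
        pull (fst X X).left (PicGrp.cls N hN) * pull (snd X X).left (PicGrp.cls N hN) := by
      rw [hpc, hpc, hpc, MonObj.mul_eq_mul, AgSymm.toBase_mul]
      exact hadd _ _ _
    rw [pull_cls, pull_cls, pull_cls] at h
    exact (PicGrp.cls_eq_cls_iff _ (TMul.isInvertible_tensorMod (PicLoc.isInvertible_pullback _ hN)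
      (PicLoc.isInvertible_pullback _ hN))).1 h
  have hv := (S7804.result _ X N hN hmul).1
    (fun h1 => hne ((pull_cls g M hM).trans ((PicGrp.cls_eq_one_iff hN).2 h1))) p
  let f := Limits.pullback.snd A.hom T.hom
  have hg := FMTool.isPullback_whiskerLeft (A := A) (resHom T y)
  let e : f.fiber y ≅ X.left := (IsPullback.of_hasPullback f (T.left.fromSpecResidueField y)).isoIsPullback _ _ hg
  let i : (Scheme.Modules.pullback e.hom).obj N ≅ CohIII.fiberMod f M y :=
    (Scheme.Modules.pullbackComp e.hom g).app M ≪≫
      (Scheme.Modules.pullbackCongr ((IsPullback.isoIsPullback_hom_fst _ _ _ _ : e.hom ≫ g = f.fiberι y))).app M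
  exact CohQC.hh_subsingleton_of_iso i p
    (TwistOverVan.subsingleton_hh_pullback_iso e.hom _ (TMul.isQCoh_of_isInvertible hN) p hv)

end Groth.Agent.AVMukai
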