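import Groth.Agent.AVMukai.Shift
import Groth.Agent.FMTool.AVPhi
import Groth.Agent.FMTool.FMComp
import Groth.Agent.FMTool.ConvBC

/-!
Two transforms whose kernels compose to a pull back of a point module.
-/

set_option autoImplicit false
set_option backward.isDefEq.respectTransparency false
set_option backward.isDefEq.respectTransparency.types false
set_option linter.style.haveILetI false
set_option linter.unusedSectionVars false
set_option maxHeartbeats 2000000

universe u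

open CategoryTheory Limits AlgebraicGeometry HomologicalComplex

attribute [local instance] HasDerivedCategory.standard

noncomputable section

namespace Groth.Agent.AVMukai

open Groth.Agent.KFlat Groth.Agent.ProjForm Groth.Agent.TorBC Groth.Agent.FMTool

/-- a closed immersion pushes a module in degree zero to a module in degree zero -/
theorem nonempty_rpush_inD {X Y : Scheme.{u}} (i : Y ⟶ X) [IsClosedImmersion i] [DCoh.HasRpush i] (M : Y.Modules) :
    Nonempty ((DCoh.Rpush i).obj (DCoh.inD Y M) ≅ DCoh.inD X ((Scheme.Modules.pushforward i).obj M)) :=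
  ⟨(DCoh.Rpush i).mapIso (inDIso M) ≪≫ ((rpQ i).app (sg M)).symm ≪≫
    DerivedCategory.Q.mapIso ((singleMapHomologicalComplex (Scheme.Modules.pushforward i) (ComplexShape.up ℤ) 0).app M) ≪≫
      (inDIso _).symm⟩

/-- direct and inverse image along an involution agree -/
theorem nonempty_rpush_invol {X : Scheme.{u}} (h : X ⟶ X) (hh : h ≫ h = 𝟙 X) [DCoh.HasRpush h] [DCoh.HasLpull h] :
    Nonempty (DCoh.Rpush h ≅ DCoh.Lpull h) := by
  obtain ⟨a⟩ := DerPush.nonempty_lpull_adj_rpush h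
  obtain ⟨e⟩ := nonempty_lpull_section hh
  exact ⟨a.rightAdjointUniq (CategoryTheory.Equivalence.mk (DCoh.Lpull h) (DCoh.Lpull h) e.symm e).toAdjunction⟩

variable {S X Y Z B W V : Scheme.{u}}

/-- **the composite of two transforms whose kernel is the pull back of a shifted point module** -/
theorem nonempty_transform_square (a : X ⟶ S) (b : Y ⟶ S) (c : Z ⟶ S) [QuasiCompact a] [QuasiSeparated a]
    [QuasiCompact b] [QuasiSeparated b] [QuasiCompact c] [QuasiSeparated c] [Flat a] {P : (pullback a b).Modules}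
    (hP : PicF.IsInvertible P) {P' : (pullback b c).Modules} (hP' : PicF.IsInvertible P') {P₀ : V.Modules}
    (hP₀ : PicF.IsInvertible P₀) (G : FMK.T a b c ⟶ V) (q : V ⟶ B) [QuasiCompact q] [QuasiSeparated q]
    (m : pullback a c ⟶ B) [Flat m] (sqG : IsPullback G (FMK.p13 a b c) q m)
    (E : CohB1.tensorMod ((Scheme.Modules.pullback (FMK.p12 a b c)).obj P)
      ((Scheme.Modules.pullback (FMK.p23 a b c)).obj P') ≅ (Scheme.Modules.pullback G).obj P₀)
    (e : W ⟶ B) [IsClosedImmersion e] (n : ℤ) [DCoh.HasRpush q]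
    (R : Nonempty ((DCoh.Rpush q).obj (DCoh.inD V P₀) ≅
      (DCoh.inD B ((Scheme.Modules.pushforward e).obj (Coh.structureModule W)))⟦n⟧))
    (π : X ⟶ W) (j : X ⟶ pullback a c) [IsClosedImmersion j] (sqj : IsPullback π j e m)
    (hj : j ≫ pullback.fst a c = 𝟙 X) (h : X ⟶ Z) (hh : j ≫ pullback.snd a c = h)
    [DCoh.HasLpull (pullback.fst a b)] [DCoh.HasLTensorMod P] [DCoh.HasRpush (pullback.snd a b)]
    [DCoh.HasLpull (pullback.fst b c)] [DCoh.HasLTensorMod P'] [DCoh.HasRpush (pullback.snd b c)]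
    [DCoh.HasRpush h] :
    Nonempty (ObjectProperty.ι (DCoh.IsQCohD (X := X)) ⋙
        (DCoh.Lpull (pullback.fst a b) ⋙ DCoh.LTensorMod P ⋙ DCoh.Rpush (pullback.snd a b)) ⋙
        (DCoh.Lpull (pullback.fst b c) ⋙ DCoh.LTensorMod P' ⋙ DCoh.Rpush (pullback.snd b c)) ≅
      ObjectProperty.ι (DCoh.IsQCohD (X := X)) ⋙ DCoh.Rpush h ⋙ shiftFunctor (DCoh.D Z) n) := by
  let p₁₂ := FMK.p12 a b c
  let p₂₃ := FMK.p23 a b c
  let p₁₃ := FMK.p13 a b c
  let M₁ := (Scheme.Modules.pullback p₁₂).obj P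
  let M₂ := (Scheme.Modules.pullback p₂₃).obj P'
  have hM₁ : PicF.IsInvertible M₁ := PicLoc.isInvertible_pullback p₁₂ hP
  haveI := KFlat.hasLpull p₁₂
  haveI := KFlat.hasLpull p₂₃
  haveI := KFlat.hasLpull G
  haveI := KFlat.hasLpull m
  haveI := KFlat.hasLpull π
  haveI := DerPush.hasRpush_sch p₁₃
  haveI := DerPush.hasRpush_sch e
  haveI := DerPush.hasRpush_sch j
  haveI := KFlat.hasLTensorCx (sg P)
  haveI := KFlat.hasLTensorCx (sg P')
  haveI := KFlat.hasLTensorCx (sg M₂)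
  haveI := KFlat.hasLpull (pullback.fst a c)
  haveI := DerPush.hasRpush_sch (pullback.snd a c)
  obtain ⟨lP⟩ := nonempty_ltmod P
  obtain ⟨lP'⟩ := nonempty_ltmod P'
  obtain ⟨sP'⟩ := nonempty_lpull_sg p₂₃ hP'
  obtain ⟨sP⟩ := nonempty_lpull_sg p₁₂ hP
  -- the composite kernel
  obtain ⟨t⟩ := nonempty_ltensor_sg hM₁ M₂
  let C := FMK.conv a b c (sg P) (sg M₂)
  let c₁ : C ≅ (DCoh.Rpush p₁₃).obj (DCoh.inD _ ((Scheme.Modules.pullback G).obj P₀)) :=
    (DCoh.Rpush p₁₃).mapIso ((DCoh.LTensorCx (sg M₂)).mapIso sP.symm ≪≫ t.symm ≪≫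
      (inDIso _).symm ≪≫ inDMap E)
  obtain ⟨gP⟩ := nonempty_lpull_inD G hP₀
  obtain ⟨b₁⟩ := nonempty_bcNat sqG (Or.inl ‹Flat m›)
  let c₂ : (DCoh.Rpush p₁₃).obj (DCoh.inD _ ((Scheme.Modules.pullback G).obj P₀)) ≅
      (DCoh.Lpull m).obj ((DCoh.Rpush q).obj (DCoh.inD V P₀)) :=
    (DCoh.Rpush p₁₃).mapIso gP.symm ≪≫ (b₁.app ⟨DCoh.inD V P₀, isQCohD_inD_invertible hP₀⟩).symm
  obtain ⟨R'⟩ := R
  obtain ⟨ls⟩ := nonempty_lpull_shift m (DCoh.inD B ((Scheme.Modules.pushforward e).obj (Coh.structureModule W))) n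
  obtain ⟨re⟩ := nonempty_rpush_inD e (Coh.structureModule W)
  obtain ⟨b₂⟩ := nonempty_bcNat sqj (Or.inl ‹Flat m›)
  obtain ⟨πO⟩ := nonempty_lpull_inD π (TMul.isInvertible_structureModule (X := W))
  obtain ⟨rj⟩ := nonempty_rpush_inD j (Coh.structureModule X)
  let c₃ : (DCoh.Lpull m).obj (DCoh.inD B ((Scheme.Modules.pushforward e).obj (Coh.structureModule W))) ≅
      DCoh.toD _ (sg ((Scheme.Modules.pushforward j).obj (Coh.structureModule X))) :=
    (DCoh.Lpull m).mapIso re.symm ≪≫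
      b₂.app ⟨DCoh.inD W (Coh.structureModule W), isQCohD_inD_invertible TMul.isInvertible_structureModule⟩ ≪≫
      (DCoh.Rpush j).mapIso (πO ≪≫ inDMap (PicLoc.pullbackStructureIso π)) ≪≫ rj ≪≫ inDIso _
  let D := sg ((Scheme.Modules.pushforward j).obj (Coh.structureModule X))
  let N := D⟦n⟧
  haveI := KFlat.hasLTensorCx N
  let eN : DCoh.toD _ N ≅ (DCoh.toD _ D)⟦n⟧ :=
    ((DerivedCategory.Q (C := (pullback a c).Modules)).commShiftIso n).app D
  let eC : DCoh.toD _ N ≅ C :=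
    eN ≪≫ (shiftFunctor _ n).mapIso c₃.symm ≪≫ ls.symm ≪≫ (DCoh.Lpull m).mapIso R'.symm ≪≫ c₂.symm ≪≫ c₁.symm
  obtain ⟨comp⟩ := nonempty_phi_comp a b c (Or.inl ‹Flat a›) (sg P) (sg P') (isQCohD_sg_invertible hP)
    (isQCohD_sg_invertible hP') (sg M₂) ⟨sP'⟩ N ⟨eC⟩
  obtain ⟨gr⟩ := nonempty_phi_graph a c j hj h hh n N ⟨eN⟩
  exact ⟨Functor.isoWhiskerLeft _ ((Functor.isoWhiskerLeft _ (Functor.isoWhiskerRight lP'
      (DCoh.Rpush (pullback.snd b c)))) |> fun u => (Functor.isoWhiskerRight (Functor.isoWhiskerLeft _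
        (Functor.isoWhiskerRight lP (DCoh.Rpush (pullback.snd a b)))) _) ≪≫ Functor.isoWhiskerLeft _ u) ≪≫
    comp.symm ≪≫ Functor.isoWhiskerLeft _ gr⟩

end Groth.Agent.AVMukai
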