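import Groth.Agent.AVMukai.SideA
import Groth.Agent.AVMukai.Conc
import Groth.Agent.AVMukai.Square
import Groth.Agent.GrpAct.OrbitFlat

/-!
Mukai's inversion theorem.
-/

set_option autoImplicit false
set_option backward.isDefEq.respectTransparency false
set_option backward.isDefEq.respectTransparency.types false
set_option linter.style.haveILetI false
set_option linter.unusedSectionVars false
set_option maxHeartbeats 2000000

universe u

open CategoryTheory MonoidalCategory CartesianMonoidalCategory MonObj GrpObj AlgebraicGeometry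
open Groth.Agent.W7Cube (pull pull_pull pull_cls)
open Groth.Agent.AbPrim (val pull_val)

attribute [local instance] HasDerivedCategory.standard

noncomputable section

namespace Groth.Agent.AVMukai

attribute [local instance] W7Cube.law

section Grp

variable {S : Scheme.{u}} (G : Over S) [GrpObj G]

/-- the antidiagonal is the fibre of the multiplication over the origin -/
theorem isPullback_antidiag :
    IsPullback G.hom (lift (𝟙 G) (𝟙 G)⁻¹).left η[G].left μ[G].left := by
  have hw : toUnit G ≫ η[G] = lift (𝟙 G) (𝟙 G)⁻¹ ≫ μ[G] := by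
    rw [MonObj.mul_eq_mul, MonObj.comp_mul, lift_fst, lift_snd, mul_inv_cancel]
    exact (Hom.one_def).symm
  have h : IsPullback (toUnit G) (lift (𝟙 G) (𝟙 G)⁻¹) η[G] μ[G] := by
    refine IsPullback.of_isLimit' ⟨hw⟩ (Limits.PullbackCone.IsLimit.mk hw (fun s => s.snd ≫ fst G G)
      (fun s => toUnit_unique _ _) (fun s => ?_) fun s m _ hm => ?_)
    · have h1 : s.snd ≫ fst G G * s.snd ≫ snd G G = 1 := by
        rw [← MonObj.comp_mul, ← MonObj.mul_eq_mul, ← s.condition, Hom.one_def, toUnit_unique s.fst (toUnit _)]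
      refine CartesianMonoidalCategory.hom_ext _ _ ?_ ?_
      · rw [Category.assoc, lift_fst, Category.comp_id]
      · rw [Category.assoc, lift_snd, GrpObj.comp_inv, Category.comp_id, eq_inv_of_mul_eq_one_right h1]
    · rw [← hm, Category.assoc, lift_fst, Category.comp_id]
  exact h.map (Over.forget S)

end Grp

variable {k : Type u} [Field k] {A At : Over (Spec (CommRingCat.of k))} [GrpObj A] [IsProper A.hom] [Smooth A.hom]
  [GeometricallyConnected A.hom] [GeometricallyIntegral A.hom] [GrpObj At] [IsProper At.hom] [Smooth At.hom]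
  [GeometricallyConnected At.hom] [GeometricallyIntegral At.hom] [IsLocallyNoetherian At.left]
  [IsLocallyNoetherian A.left]
  [LocallyOfFiniteType (Limits.pullback.snd A.hom At.hom)]
  {φ : ∀ T : Over (Spec (CommRingCat.of k)), PicF.Cl (PicF.XT A.hom T) → (T ⟶ At)}
  (hA : AbDual.IsDualAV Scheme.fppfPrecoverage A At φ) (Q : AgSymm.Poincare φ)
  {P : (Limits.pullback A.hom At.hom).Modules} (hP : PicF.IsInvertible P)
  (hQ : Q.x = PicGrp.cls (Y := (A ⊗ At).left) P hP)

/-- the inversion of a group is an involution -/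
lemma inv_invol (G : Over (Spec (CommRingCat.of k))) [GrpObj G] : ((𝟙 G)⁻¹).left ≫ ((𝟙 G)⁻¹).left = 𝟙 G.left := by
  rw [← Over.comp_left, GrpObj.comp_inv, Category.comp_id, _root_.inv_inv, Over.id_left]

/-- the antidiagonal is a closed immersion -/
lemma isClosedImmersion_antidiag (G : Over (Spec (CommRingCat.of k))) [GrpObj G] [IsSeparated G.hom] :
    IsClosedImmersion (lift (𝟙 G) (𝟙 G)⁻¹).left := by
  haveI : IsClosedImmersion ((lift (𝟙 G) (𝟙 G)⁻¹).left ≫ (fst G G).left) := by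
    rw [← Over.comp_left, lift_fst, Over.id_left]
    infer_instance
  haveI : IsSeparated (fst G G).left := inferInstanceAs (IsSeparated (Limits.pullback.fst G.hom G.hom))
  exact IsClosedImmersion.of_comp _ (fst G G).left

include hA hQ in
/-- **`Φ' ∘ Φ = (-1)^*[-g]`** -/
theorem nonempty_inverse (g : ℕ) (hg : topologicalKrullDim A.left = g) [DCoh.HasLpull (Limits.pullback.fst A.hom At.hom)]
    [DCoh.HasLTensorMod P] [DCoh.HasRpush (Limits.pullback.snd A.hom At.hom)]
    [DCoh.HasLpull (Limits.pullback.fst At.hom A.hom)]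
    [DCoh.HasLTensorMod ((Scheme.Modules.pullback (Limits.pullbackSymmetry At.hom A.hom).hom).obj P)]
    [DCoh.HasRpush (Limits.pullback.snd At.hom A.hom)] [DCoh.HasRpush ((𝟙 A)⁻¹).left] :
    Nonempty (ObjectProperty.ι (DCoh.IsQCohD (X := A.left)) ⋙
        (DCoh.Lpull (Limits.pullback.fst A.hom At.hom) ⋙ DCoh.LTensorMod P ⋙
          DCoh.Rpush (Limits.pullback.snd A.hom At.hom)) ⋙
        (DCoh.Lpull (Limits.pullback.fst At.hom A.hom) ⋙
          DCoh.LTensorMod ((Scheme.Modules.pullback (Limits.pullbackSymmetry At.hom A.hom).hom).obj P) ⋙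
          DCoh.Rpush (Limits.pullback.snd At.hom A.hom)) ≅
      ObjectProperty.ι (DCoh.IsQCohD (X := A.left)) ⋙ DCoh.Rpush ((𝟙 A)⁻¹).left ⋙
        shiftFunctor (DCoh.D A.left) (-(g : ℤ))) := by
  haveI := DQPush.hasInj (A ⊗ At).left
  haveI : HasInjectiveResolutions (Limits.pullback A.hom At.hom).Modules := ‹HasInjectiveResolutions (A ⊗ At).left.Modules›
  let a := A.hom
  let b := At.hom
  let sym := (Limits.pullbackSymmetry b a).hom
  let p₁₂ := FMK.p12 a b a
  let p₂₃ := FMK.p23 a b a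
  let Tk : Over (Spec (CommRingCat.of k)) := Over.mk ((p₁₂ ≫ Limits.pullback.fst a b) ≫ a)
  let f₁ : Tk ⟶ A := Over.homMk (p₁₂ ≫ Limits.pullback.fst a b) rfl
  let t : Tk ⟶ At := Over.homMk (p₁₂ ≫ Limits.pullback.snd a b)
    (by change _ = (_ ≫ _) ≫ _; rw [Category.assoc, Category.assoc, Limits.pullback.condition])
  let f₃ : Tk ⟶ A := Over.homMk (p₂₃ ≫ Limits.pullback.snd b a)
    (by change _ = (_ ≫ _) ≫ _; exact (FMK.p12_fst_comp_eq_p23_snd_comp a b a).symm)
  have h12 : p₁₂ = (lift f₁ t).left := Limits.pullback.hom_ext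
    (congrArg (fun m => m.left) (lift_fst f₁ t)).symm (congrArg (fun m => m.left) (lift_snd f₁ t)).symm
  have h13 : FMK.p13 a b a = (lift f₁ f₃).left := Limits.pullback.hom_ext
    ((FMK.p13_fst a b a).trans (congrArg (fun m => m.left) (lift_fst f₁ f₃)).symm)
    ((FMK.p13_snd a b a).trans (congrArg (fun m => m.left) (lift_snd f₁ f₃)).symm)
  have hmid : p₁₂ ≫ Limits.pullback.snd a b = p₂₃ ≫ Limits.pullback.fst b a := Limits.pullback.condition
  have h23 : p₂₃ ≫ sym = (lift f₃ t).left := Limits.pullback.hom_ext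
    ((by simp [sym] : (p₂₃ ≫ sym) ≫ Limits.pullback.fst a b = p₂₃ ≫ Limits.pullback.snd b a).trans
      (congrArg (fun m => m.left) (lift_fst f₃ t)).symm)
    (((by simp [sym] : (p₂₃ ≫ sym) ≫ Limits.pullback.snd a b = p₂₃ ≫ Limits.pullback.fst b a).trans hmid.symm).trans
      (congrArg (fun m => m.left) (lift_snd f₃ t)).symm)
  -- the triple product
  let σ : Tk ⟶ (A ⊗ A) ⊗ At := lift (lift f₁ f₃) t
  let c₁ : (A ⊗ A) ⊗ At ⟶ A ⊗ At := lift (fst _ _ ≫ fst A A) (snd _ _)
  let c₂ : (A ⊗ A) ⊗ At ⟶ At ⊗ A := lift (snd _ _) (fst _ _ ≫ snd A A)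
  let ρ : ((A ⊗ A) ⊗ At).left ⟶ FMK.T a b a := Limits.pullback.lift c₁.left c₂.left
    ((congrArg (fun m => m.left) (lift_snd (fst (A ⊗ A) At ≫ fst A A) (snd _ _))).trans
      (congrArg (fun m => m.left) (lift_fst (snd (A ⊗ A) At) (fst _ _ ≫ snd A A))).symm)
  have hρ₁ : ρ ≫ p₁₂ = c₁.left := Limits.pullback.lift_fst _ _ _
  have hρ₂ : ρ ≫ p₂₃ = c₂.left := Limits.pullback.lift_snd _ _ _
  have hσρ : σ.left ≫ ρ = 𝟙 _ := by
    refine Limits.pullback.hom_ext ?_ ?_
    · rw [Category.assoc, hρ₁, Category.id_comp]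
      refine Eq.trans ?_ h12.symm
      rw [← Over.comp_left]
      refine congrArg (fun m : Tk ⟶ A ⊗ At => m.left) (CartesianMonoidalCategory.hom_ext _ _ ?_ ?_) <;> simp [σ, c₁]
    · rw [Category.assoc, hρ₂, Category.id_comp, ← Over.comp_left]
      refine Limits.pullback.hom_ext ?_ ?_
      · refine Eq.trans ?_ hmid
        exact congrArg (fun m => m.left) (show (σ ≫ c₂) ≫ fst At A = t by simp [σ, c₂])
      · exact congrArg (fun m => m.left) (show (σ ≫ c₂) ≫ snd At A = f₃ by simp [σ, c₂])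
  have hρσ : ρ ≫ σ.left = 𝟙 _ := by
    have hov : ρ ≫ Tk.hom = ((A ⊗ A) ⊗ At).hom := by
      change ρ ≫ (p₁₂ ≫ Limits.pullback.fst a b) ≫ a = _
      rw [← Category.assoc, ← Category.assoc, hρ₁]
      exact Over.w (c₁ ≫ fst A At)
    let ρ' : (A ⊗ A) ⊗ At ⟶ Tk := Over.homMk ρ hov
    have e1 : ρ' ≫ f₁ = fst _ _ ≫ fst A A := Over.OverMorphism.ext (by
      rw [Over.comp_left]
      change ρ ≫ p₁₂ ≫ Limits.pullback.fst a b = _
      rw [← Category.assoc, hρ₁]
      exact congrArg (fun m => m.left) (lift_fst (fst (A ⊗ A) At ≫ fst A A) (snd _ _)))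
    have e2 : ρ' ≫ t = snd _ _ := Over.OverMorphism.ext (by
      rw [Over.comp_left]
      change ρ ≫ p₁₂ ≫ Limits.pullback.snd a b = _
      rw [← Category.assoc, hρ₁]
      exact congrArg (fun m => m.left) (lift_snd (fst (A ⊗ A) At ≫ fst A A) (snd _ _)))
    have e3 : ρ' ≫ f₃ = fst _ _ ≫ snd A A := Over.OverMorphism.ext (by
      rw [Over.comp_left]
      change ρ ≫ p₂₃ ≫ Limits.pullback.snd b a = _
      rw [← Category.assoc, hρ₂]
      exact congrArg (fun m => m.left) (lift_snd (snd (A ⊗ A) At) (fst _ _ ≫ snd A A)))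
    have : ρ' ≫ σ = 𝟙 _ := by
      refine CartesianMonoidalCategory.hom_ext _ _ (CartesianMonoidalCategory.hom_ext _ _ ?_ ?_) ?_ <;>
        simp [σ, e1, e2, e3]
    exact congrArg (fun m => m.left) this
  haveI : IsIso σ.left := ⟨ρ, hσρ, hρσ⟩
  let G := (lift (f₁ * f₃) t).left
  have sqG : IsPullback G (FMK.p13 a b a) (Limits.pullback.fst A.hom At.hom) μ[A].left := by
    have h := (FMTool.isPullback_fst_whiskerRight μ[A] At).flip
    refine IsPullback.of_iso h (asIso σ.left).symm (Iso.refl _) (Iso.refl _) (Iso.refl _) ?_ ?_ (by simp) (by simp)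
    · rw [Iso.refl_hom, Category.comp_id, ← cancel_epi σ.left]
      rw [← Category.assoc, show σ.left ≫ (asIso σ.left).symm.hom = 𝟙 _ from (asIso σ.left).hom_inv_id,
        Category.id_comp, ← Over.comp_left]
      refine congrArg (fun m : Tk ⟶ A ⊗ At => m.left) (CartesianMonoidalCategory.hom_ext _ _ ?_ ?_)
      · simp [σ, MonObj.mul_eq_mul, MonObj.comp_mul]
      · simp [σ]
    · rw [Iso.refl_hom, Category.comp_id, ← cancel_epi σ.left]
      rw [← Category.assoc, show σ.left ≫ (asIso σ.left).symm.hom = 𝟙 _ from (asIso σ.left).hom_inv_id,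
        Category.id_comp, h13]
      exact congrArg (fun m => m.left) (lift_fst (lift f₁ f₃) t)
  let P' := (Scheme.Modules.pullback sym).obj P
  have hP' : PicF.IsInvertible P' := PicLoc.isInvertible_pullback sym hP
  have hE : pull p₁₂ (PicGrp.cls P hP) * pull p₂₃ (PicGrp.cls P' hP') = pull G (PicGrp.cls P hP) := by
    rw [← pull_cls sym P hP, pull_pull, h12, h23, ← hQ]
    exact (Q.val_mul_left f₁ f₃ t).symm
  rw [pull_cls, pull_cls, pull_cls] at hE
  obtain ⟨E⟩ := (PicGrp.cls_eq_cls_iff (TMul.isInvertible_tensorMod (PicLoc.isInvertible_pullback _ hP)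
    (PicLoc.isInvertible_pullback _ hP')) (PicLoc.isInvertible_pullback _ hP)).1 hE
  haveI : Flat μ[A].left := GrpAct.flat_mul (G := A)
  haveI := isClosedImmersion_antidiag A
  haveI : IsClosedImmersion η[A].left := by
    haveI : IsClosedImmersion (η[A].left ≫ A.hom) := by
      rw [Over.w η[A]]
      exact inferInstanceAs (IsClosedImmersion (𝟙 (Spec (CommRingCat.of k))))
    exact IsClosedImmersion.of_comp η[A].left A.hom
  haveI := DerPush.hasRpush_sch (Limits.pullback.fst A.hom At.hom)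
  have hgt := dim_eq hA Q hP hQ g hg
  have R := nonempty_rpush_shift (Limits.pullback.fst A.hom At.hom) P _ g
    (fun n hn => isZero_fst hA Q hP hQ g hg hgt n hn) (nonempty_skyscraper_fst hA Q hP hQ g hg hgt)
  exact nonempty_transform_square a b a hP hP' hP G (Limits.pullback.fst A.hom At.hom) μ[A].left sqG E η[A].left _ R
    A.hom (lift (𝟙 A) (𝟙 A)⁻¹).left (isPullback_antidiag A)
    ((congrArg (fun m => m.left) (lift_fst (𝟙 A) (𝟙 A)⁻¹)).trans (Over.id_left _))
    ((𝟙 A)⁻¹).left (congrArg (fun m => m.left) (lift_snd (𝟙 A) (𝟙 A)⁻¹))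

include hA hQ in
/-- **`Φ ∘ Φ' = (-1)^*[-g]`** -/
theorem nonempty_inverse' (g : ℕ) (hg : topologicalKrullDim A.left = g) [DCoh.HasLpull (Limits.pullback.fst A.hom At.hom)]
    [DCoh.HasLTensorMod P] [DCoh.HasRpush (Limits.pullback.snd A.hom At.hom)]
    [DCoh.HasLpull (Limits.pullback.fst At.hom A.hom)]
    [DCoh.HasLTensorMod ((Scheme.Modules.pullback (Limits.pullbackSymmetry At.hom A.hom).hom).obj P)]
    [DCoh.HasRpush (Limits.pullback.snd At.hom A.hom)] [DCoh.HasRpush ((𝟙 At)⁻¹).left] :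
    Nonempty (ObjectProperty.ι (DCoh.IsQCohD (X := At.left)) ⋙
        (DCoh.Lpull (Limits.pullback.fst At.hom A.hom) ⋙
          DCoh.LTensorMod ((Scheme.Modules.pullback (Limits.pullbackSymmetry At.hom A.hom).hom).obj P) ⋙
          DCoh.Rpush (Limits.pullback.snd At.hom A.hom)) ⋙
        (DCoh.Lpull (Limits.pullback.fst A.hom At.hom) ⋙ DCoh.LTensorMod P ⋙
          DCoh.Rpush (Limits.pullback.snd A.hom At.hom)) ≅
      ObjectProperty.ι (DCoh.IsQCohD (X := At.left)) ⋙ DCoh.Rpush ((𝟙 At)⁻¹).left ⋙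
        shiftFunctor (DCoh.D At.left) (-(g : ℤ))) := by
  haveI := DQPush.hasInj (A ⊗ At).left
  haveI : HasInjectiveResolutions (Limits.pullback A.hom At.hom).Modules := ‹HasInjectiveResolutions (A ⊗ At).left.Modules›
  let a := A.hom
  let b := At.hom
  let sym := (Limits.pullbackSymmetry b a).hom
  let p₁₂ := FMK.p12 b a b
  let p₂₃ := FMK.p23 b a b
  let Tk : Over (Spec (CommRingCat.of k)) := Over.mk ((p₁₂ ≫ Limits.pullback.fst b a) ≫ b)
  let t₁ : Tk ⟶ At := Over.homMk (p₁₂ ≫ Limits.pullback.fst b a) rfl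
  let f : Tk ⟶ A := Over.homMk (p₁₂ ≫ Limits.pullback.snd b a)
    (by change _ = (_ ≫ _) ≫ _; rw [Category.assoc, Category.assoc, Limits.pullback.condition])
  let t₃ : Tk ⟶ At := Over.homMk (p₂₃ ≫ Limits.pullback.snd a b)
    (by change _ = (_ ≫ _) ≫ _; exact (FMK.p12_fst_comp_eq_p23_snd_comp b a b).symm)
  have h12s : p₁₂ ≫ sym = (lift f t₁).left := Limits.pullback.hom_ext
    ((by simp [sym] : (p₁₂ ≫ sym) ≫ Limits.pullback.fst a b = p₁₂ ≫ Limits.pullback.snd b a).trans
      (congrArg (fun m => m.left) (lift_fst f t₁)).symm)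
    ((by simp [sym] : (p₁₂ ≫ sym) ≫ Limits.pullback.snd a b = p₁₂ ≫ Limits.pullback.fst b a).trans
      (congrArg (fun m => m.left) (lift_snd f t₁)).symm)
  have h13 : FMK.p13 b a b = (lift t₁ t₃).left := Limits.pullback.hom_ext
    ((FMK.p13_fst b a b).trans (congrArg (fun m => m.left) (lift_fst t₁ t₃)).symm)
    ((FMK.p13_snd b a b).trans (congrArg (fun m => m.left) (lift_snd t₁ t₃)).symm)
  have hmid : p₁₂ ≫ Limits.pullback.snd b a = p₂₃ ≫ Limits.pullback.fst a b := Limits.pullback.condition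
  have h23 : p₂₃ = (lift f t₃).left := Limits.pullback.hom_ext
    (hmid.symm.trans (congrArg (fun m => m.left) (lift_fst f t₃)).symm)
    (congrArg (fun m => m.left) (lift_snd f t₃)).symm
  let σ : Tk ⟶ A ⊗ (At ⊗ At) := lift f (lift t₁ t₃)
  let c₁ : A ⊗ (At ⊗ At) ⟶ At ⊗ A := lift (snd _ _ ≫ fst At At) (fst _ _)
  let c₂ : A ⊗ (At ⊗ At) ⟶ A ⊗ At := lift (fst _ _) (snd _ _ ≫ snd At At)
  let ρ : (A ⊗ (At ⊗ At)).left ⟶ FMK.T b a b := Limits.pullback.lift c₁.left c₂.left
    ((congrArg (fun m => m.left) (lift_snd (snd A (At ⊗ At) ≫ fst At At) (fst _ _))).trans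
      (congrArg (fun m => m.left) (lift_fst (fst A (At ⊗ At)) (snd _ _ ≫ snd At At))).symm)
  have hρ₁ : ρ ≫ p₁₂ = c₁.left := Limits.pullback.lift_fst _ _ _
  have hρ₂ : ρ ≫ p₂₃ = c₂.left := Limits.pullback.lift_snd _ _ _
  have hσρ : σ.left ≫ ρ = 𝟙 _ := by
    refine Limits.pullback.hom_ext ?_ ?_
    · rw [Category.assoc, hρ₁, Category.id_comp, ← Over.comp_left]
      refine Limits.pullback.hom_ext ?_ ?_
      · exact congrArg (fun m => m.left) (show (σ ≫ c₁) ≫ fst At A = t₁ by simp [σ, c₁])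
      · exact congrArg (fun m => m.left) (show (σ ≫ c₁) ≫ snd At A = f by simp [σ, c₁])
    · rw [Category.assoc, hρ₂, Category.id_comp]
      refine Eq.trans ?_ h23.symm
      rw [← Over.comp_left]
      refine congrArg (fun m : Tk ⟶ A ⊗ At => m.left) (CartesianMonoidalCategory.hom_ext _ _ ?_ ?_) <;> simp [σ, c₂]
  have hρσ : ρ ≫ σ.left = 𝟙 _ := by
    have hov : ρ ≫ Tk.hom = (A ⊗ (At ⊗ At)).hom := by
      change ρ ≫ (p₁₂ ≫ Limits.pullback.fst b a) ≫ b = _
      rw [← Category.assoc, ← Category.assoc, hρ₁]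
      exact Over.w (c₁ ≫ fst At A)
    let ρ' : A ⊗ (At ⊗ At) ⟶ Tk := Over.homMk ρ hov
    have e1 : ρ' ≫ t₁ = snd _ _ ≫ fst At At := Over.OverMorphism.ext (by
      rw [Over.comp_left]
      change ρ ≫ p₁₂ ≫ Limits.pullback.fst b a = _
      rw [← Category.assoc, hρ₁]
      exact congrArg (fun m => m.left) (lift_fst (snd A (At ⊗ At) ≫ fst At At) (fst _ _)))
    have e2 : ρ' ≫ f = fst _ _ := Over.OverMorphism.ext (by
      rw [Over.comp_left]
      change ρ ≫ p₁₂ ≫ Limits.pullback.snd b a = _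
      rw [← Category.assoc, hρ₁]
      exact congrArg (fun m => m.left) (lift_snd (snd A (At ⊗ At) ≫ fst At At) (fst _ _)))
    have e3 : ρ' ≫ t₃ = snd _ _ ≫ snd At At := Over.OverMorphism.ext (by
      rw [Over.comp_left]
      change ρ ≫ p₂₃ ≫ Limits.pullback.snd a b = _
      rw [← Category.assoc, hρ₂]
      exact congrArg (fun m => m.left) (lift_snd (fst A (At ⊗ At)) (snd _ _ ≫ snd At At)))
    have : ρ' ≫ σ = 𝟙 _ := by
      refine CartesianMonoidalCategory.hom_ext _ _ ?_ (CartesianMonoidalCategory.hom_ext _ _ ?_ ?_) <;>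
        simp [σ, e1, e2, e3]
    exact congrArg (fun m => m.left) this
  haveI : IsIso σ.left := ⟨ρ, hσρ, hρσ⟩
  let G := (lift f (t₁ * t₃)).left
  have sqG : IsPullback G (FMK.p13 b a b) (Limits.pullback.snd A.hom At.hom) μ[At].left := by
    have h := FMTool.isPullback_whiskerLeft (A := A) μ[At]
    refine IsPullback.of_iso h (asIso σ.left).symm (Iso.refl _) (Iso.refl _) (Iso.refl _) ?_ ?_ (by simp) (by simp)
    · rw [Iso.refl_hom, Category.comp_id, ← cancel_epi σ.left]
      rw [← Category.assoc, show σ.left ≫ (asIso σ.left).symm.hom = 𝟙 _ from (asIso σ.left).hom_inv_id,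
        Category.id_comp, ← Over.comp_left]
      refine congrArg (fun m : Tk ⟶ A ⊗ At => m.left) (CartesianMonoidalCategory.hom_ext _ _ ?_ ?_)
      · simp [σ]
      · simp [σ, MonObj.mul_eq_mul, MonObj.comp_mul]
    · rw [Iso.refl_hom, Category.comp_id, ← cancel_epi σ.left]
      rw [← Category.assoc, show σ.left ≫ (asIso σ.left).symm.hom = 𝟙 _ from (asIso σ.left).hom_inv_id,
        Category.id_comp, h13]
      exact congrArg (fun m => m.left) (lift_snd f (lift t₁ t₃))
  let P' := (Scheme.Modules.pullback sym).obj P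
  have hP' : PicF.IsInvertible P' := PicLoc.isInvertible_pullback sym hP
  have hE : pull p₁₂ (PicGrp.cls P' hP') * pull p₂₃ (PicGrp.cls P hP) = pull G (PicGrp.cls P hP) := by
    rw [← pull_cls sym P hP, pull_pull, h12s, h23, ← hQ]
    exact (Q.val_mul_right hA f t₁ t₃).symm
  rw [pull_cls, pull_cls, pull_cls] at hE
  obtain ⟨E⟩ := (PicGrp.cls_eq_cls_iff (TMul.isInvertible_tensorMod (PicLoc.isInvertible_pullback _ hP')
    (PicLoc.isInvertible_pullback _ hP)) (PicLoc.isInvertible_pullback _ hP)).1 hE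
  haveI : Flat μ[At].left := GrpAct.flat_mul (G := At)
  haveI := isClosedImmersion_antidiag At
  haveI : IsClosedImmersion η[At].left := by
    haveI : IsClosedImmersion (η[At].left ≫ At.hom) := by
      rw [Over.w η[At]]
      exact inferInstanceAs (IsClosedImmersion (𝟙 (Spec (CommRingCat.of k))))
    exact IsClosedImmersion.of_comp η[At].left At.hom
  have hgt := dim_eq hA Q hP hQ g hg
  have R := nonempty_rpush_shift (Limits.pullback.snd A.hom At.hom) P _ g
    (fun n hn => QCGen.isZero_of_sections fun O s => (lt_or_gt_of_ne hn).elim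
      (fun h => sections_zero_below hA Q hP hQ g hgt n h O s) (fun h => sections_zero_above hA Q hP hQ g hg n h O s))
    (nonempty_skyscraper hA Q hP hQ g hgt)
  exact nonempty_transform_square b a b hP' hP hP G (Limits.pullback.snd A.hom At.hom) μ[At].left sqG E η[At].left _ R
    At.hom (lift (𝟙 At) (𝟙 At)⁻¹).left (isPullback_antidiag At)
    ((congrArg (fun m => m.left) (lift_fst (𝟙 At) (𝟙 At)⁻¹)).trans (Over.id_left _))
    ((𝟙 At)⁻¹).left (congrArg (fun m => m.left) (lift_snd (𝟙 At) (𝟙 At)⁻¹))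

end Groth.Agent.AVMukai
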