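import Groth.Agent.FlatCx.Length
import Groth.Agent.W7Cech.NNBC
import Groth.Agent.CMSop.Depth
import Groth.Agent.SerreReg.MiracleFinite
import Mathlib.Algebra.Homology.HomologySequence
import Mathlib.Algebra.Homology.HomologicalComplexAbelian

/-!
Complexes of flat modules over a local ring with torsion homology: the vanishing of low degrees and the top degree.
-/

set_option autoImplicit false
set_option backward.isDefEq.respectTransparency false
set_option backward.isDefEq.respectTransparency.types false
set_option linter.style.haveILetI false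
set_option linter.unusedSectionVars false
set_option linter.overlappingInstances false

universe u

open CategoryTheory CategoryTheory.Limits MonoidalCategory IsLocalRing RingTheory.Sequence
open Groth.Agent.FlatCx Groth.Agent.CMSop
open scoped TensorProduct Pointwise

noncomputable section

namespace Groth.Agent.AVMukai

variable {R : Type u} [CommRing R] (P : CochainComplex (ModuleCat.{u} R) ℤ) (hP : ∀ i, Module.Flat R (P.X i))
  {M : Type u} [AddCommGroup M] [Module R M] {x : R}

/-- multiplication by an element -/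
abbrev mulHom (M : Type u) [AddCommGroup M] [Module R M] (x : R) : ModuleCat.of R M ⟶ ModuleCat.of R M :=
  x • 𝟙 (ModuleCat.of R M)

/-- the quotient map -/
abbrev quotHom (M : Type u) [AddCommGroup M] [Module R M] (x : R) :
    ModuleCat.of R M ⟶ ModuleCat.of R (QuotSMulTop x M) :=
  ModuleCat.ofHom (Submodule.mkQ _)

lemma mulHom_quotHom : mulHom M x ≫ quotHom M x = 0 := by
  refine ModuleCat.hom_ext (LinearMap.ext fun m => ?_)
  change Submodule.Quotient.mk (x • m) = 0
  exact (Submodule.Quotient.mk_eq_zero _).2 (Submodule.smul_mem_pointwise_smul m x ⊤ trivial)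

/-- tensoring a complex with multiplication by an element -/
def seq (M : Type u) [AddCommGroup M] [Module R M] (x : R) : ShortComplex (CochainComplex (ModuleCat.{u} R) ℤ) :=
  ShortComplex.mk (CohIII.tensorMap P (mulHom M x)) (CohIII.tensorMap P (quotHom M x)) (by
    refine HomologicalComplex.hom_ext _ _ fun n => ModuleCat.hom_ext (TensorProduct.ext' fun p m => ?_)
    change (p ⊗ₜ[R] ((mulHom M x ≫ quotHom M x).hom m)) = 0
    rw [mulHom_quotHom]
    exact TensorProduct.tmul_zero _ p)

include hP in
lemma shortExact_seq (hx : IsSMulRegular M x) : (seq P M x).ShortExact := by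
  refine HomologicalComplex.shortExact_of_degreewise_shortExact _ fun n => ?_
  haveI := hP n
  have hi : Function.Injective (mulHom M x).hom := hx
  have hs : Function.Surjective (quotHom M x).hom := Submodule.mkQ_surjective _
  have he : Function.Exact (mulHom M x).hom (quotHom M x).hom := fun m => by
    refine ⟨fun h => ?_, ?_⟩
    · obtain ⟨m', -, rfl⟩ := (Submodule.mem_smul_pointwise_iff_exists _ _ _).1 ((Submodule.Quotient.mk_eq_zero _).1 h)
      exact ⟨m', rfl⟩
    · rintro ⟨m', rfl⟩
      exact ConcreteCategory.congr_hom (mulHom_quotHom (M := M) (x := x)) m'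
  exact
    { exact := (ShortComplex.ShortExact.moduleCat_exact_iff_function_exact _).2 (lTensor_exact (P.X n) he hs)
      mono_f := (ModuleCat.mono_iff_injective _).2 (Module.Flat.lTensor_preserves_injective_linearMap _ hi)
      epi_g := (ModuleCat.epi_iff_surjective _).2 (LinearMap.lTensor_surjective (P.X n) hs) }

/-- the connecting map -/
def delta (hS : (seq P M x).ShortExact) (q : ℤ) :
    CohIII.T P q (ModuleCat.of R (QuotSMulTop x M)) →ₗ[R] CohIII.T P (q + 1) (ModuleCat.of R M) :=
  (hS.δ q (q + 1) rfl).hom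

lemma smul_eq_zero_iff (hS : (seq P M x).ShortExact) (q : ℤ) (t : CohIII.T P (q + 1) (ModuleCat.of R M)) :
    x • t = 0 ↔ t ∈ LinearMap.range (delta P hS q) := by
  have h := (ShortComplex.moduleCat_exact_iff _).1 (hS.homology_exact₁ q (q + 1) rfl)
  have e : (HomologicalComplex.homologyMap (seq P M x).f (q + 1) : _ ⟶ _) = x • 𝟙 (CohIII.T P (q + 1) (ModuleCat.of R M)) :=
    W7Cech.TFun_map_smul P (q + 1) (ModuleCat.of R M) x
  constructor
  · intro ht
    exact h t (by
      change (HomologicalComplex.homologyMap (seq P M x).f (q + 1)).hom t = 0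
      rw [e]; exact ht)
  · rintro ⟨s, rfl⟩
    have h0 := ConcreteCategory.congr_hom (hS.δ_comp q (q + 1) rfl) s
    rw [e] at h0
    exact h0

lemma delta_injective (hS : (seq P M x).ShortExact) (q : ℤ) (h : Subsingleton (CohIII.T P q (ModuleCat.of R M))) :
    Function.Injective (delta P hS q) := by
  refine (injective_iff_map_eq_zero _).2 fun s hs => ?_
  obtain ⟨v, rfl⟩ := (ShortComplex.moduleCat_exact_iff _).1 (hS.homology_exact₃ q (q + 1) rfl) s hs
  haveI := h
  have hv : v = 0 := Subsingleton.elim (α := CohIII.T P q (ModuleCat.of R M)) _ _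
  rw [hv]; exact map_zero _

variable [IsLocalRing R] (hneg : ∀ n : ℤ, n < 0 → ∀ M, IsZero (CohIII.T P n M))
  (htors : ∀ (n : ℤ) (M : ModuleCat.{u} R) (t : CohIII.T P n M), ∀ x ∈ maximalIdeal R, ∃ a : ℕ, x ^ a • t = 0)

include hP hneg htors in
/-- degrees below the depth vanish -/
theorem subsingleton_of_lt : ∀ (d : ℕ) (M : Type u) [AddCommGroup M] [Module R M],
    HasRegSeq (R := R) d M → ∀ n : ℤ, n < d → Subsingleton (CohIII.T P n (ModuleCat.of R M)) := by
  intro d
  induction d with
  | zero =>
    intro M _ _ _ n hn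
    exact ModuleCat.subsingleton_of_isZero (hneg n (by simpa using hn) _)
  | succ d ih =>
    rintro M _ _ ⟨x, hx, hreg, h⟩ n hn
    obtain ⟨q, rfl⟩ : ∃ q, n = q + 1 := ⟨n - 1, by omega⟩
    have hS := shortExact_seq P hP hreg
    haveI := ih _ h q (by push_cast at hn; omega)
    have key : ∀ t : CohIII.T P (q + 1) (ModuleCat.of R M), x • t = 0 → t = 0 := fun t ht => by
      obtain ⟨s, rfl⟩ := (smul_eq_zero_iff P hS q t).1 ht
      rw [show s = 0 from Subsingleton.elim _ _, map_zero]
    refine subsingleton_of_forall_eq 0 fun t => ?_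
    obtain ⟨a, ha⟩ := htors _ _ t x hx
    induction a with
    | zero => simpa using ha
    | succ a iha => exact iha (key _ (by rw [smul_smul, ← pow_succ']; exact ha))

include hP htors in
/-- the degree of the depth is killed by the maximal ideal if the degree zero is -/
theorem smul_eq_zero [IsNoetherianRing R]
    (h0 : ∀ (M : ModuleCat.{u} R) (t : CohIII.T P 0 M), ∀ m ∈ maximalIdeal R, m • t = 0) :
    ∀ (d : ℕ) (M : Type u) [AddCommGroup M] [Module R M], Module.Finite R M → HasRegSeq (R := R) d M →
      ∀ t : CohIII.T P (d : ℤ) (ModuleCat.of R M), ∀ m ∈ maximalIdeal R, m • t = 0 := by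
  intro d
  induction d with
  | zero => exact fun M _ _ _ _ => h0 _
  | succ d ih =>
    intro M _ _ hfin hM t m hm
    obtain ⟨x, hx, hreg, h⟩ := id hM
    revert t
    rw [show ((d + 1 : ℕ) : ℤ) = (d : ℤ) + 1 by push_cast; rfl]
    intro t
    obtain ⟨a, ha⟩ := htors _ _ t x hx
    have ha' : x ^ (a + 1) • t = 0 := by rw [pow_succ', mul_smul, ha, smul_zero]
    have hy : IsSMulRegular M (x ^ (a + 1)) := hreg.pow _
    have hS := shortExact_seq P hP hy
    obtain ⟨s, rfl⟩ := (smul_eq_zero_iff P hS d t).1 ha'
    have h' := hasRegSeq_quot d hfin hM _ (Ideal.pow_mem_of_mem _ hx _ (by omega)) hy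
    rw [← map_smul, ih _ inferInstance h' s m hm, map_zero]

include hP hneg htors in
/-- the degree of the depth is the degree zero at the quotient -/
theorem nonempty_equiv [IsNoetherianRing R]
    (h0 : ∀ (M : ModuleCat.{u} R) (t : CohIII.T P 0 M), ∀ m ∈ maximalIdeal R, m • t = 0) :
    ∀ (rs : List R) (M : Type u) [AddCommGroup M] [Module R M], Module.Finite R M → IsWeaklyRegular M rs →
      (∀ r ∈ rs, r ∈ maximalIdeal R) →
      Nonempty (CohIII.T P (rs.length : ℤ) (ModuleCat.of R M) ≃ₗ[R]
        CohIII.T P 0 (ModuleCat.of R (M ⧸ (Ideal.ofList rs • ⊤ : Submodule R M)))) := by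
  intro rs
  induction rs with
  | nil =>
    intro M _ _ _ _ _
    exact ⟨((CohIII.TFun P 0).mapIso (Submodule.quotEquivOfEqBot _ (by simp)).symm.toModuleIso).toLinearEquiv⟩
  | cons x rs ih =>
    intro M _ _ hfin hM hm
    obtain ⟨hreg, hrest⟩ := (isWeaklyRegular_cons_iff M x rs).1 hM
    have hx := hm x List.mem_cons_self
    have hm' : ∀ r ∈ rs, r ∈ maximalIdeal R := fun r hr => hm r (List.mem_cons_of_mem _ hr)
    obtain ⟨e⟩ := ih (QuotSMulTop x M) inferInstance hrest hm'
    have hM' : HasRegSeq (R := R) (rs.length + 1) M := hasRegSeq_of_isWeaklyRegular (x :: rs) M hM hm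
    have hS := shortExact_seq P hP hreg
    have hkill := smul_eq_zero P hP htors h0 (rs.length + 1) M hfin hM'
    rw [List.length_cons, show ((rs.length + 1 : ℕ) : ℤ) = (rs.length : ℤ) + 1 by push_cast; rfl]
    rw [show ((rs.length + 1 : ℕ) : ℤ) = (rs.length : ℤ) + 1 by push_cast; rfl] at hkill
    refine ⟨(LinearEquiv.ofBijective (delta P hS rs.length) ⟨delta_injective P hS _ ?_, fun t => ?_⟩).symm.trans
      (e.trans ((CohIII.TFun P 0).mapIso
        (Submodule.quotOfListConsSMulTopEquivQuotSMulTopInner M x rs).symm.toModuleIso).toLinearEquiv)⟩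
    · exact subsingleton_of_lt P hP hneg htors (rs.length + 1) M hM' _ (by push_cast; omega)
    · exact (smul_eq_zero_iff P hS _ t).1 (hkill t x hx)

include hP hneg htors in
/-- a regular local ring: vanishing below the dimension -/
theorem subsingleton_of_regular [IsRegularLocalRing R] (g : ℕ) (hg : ringKrullDim R = g) (n : ℤ) (hn : n < g) :
    Subsingleton (CohIII.T P n (ModuleCat.of R R)) := by
  obtain ⟨rs, hl, hw, hs⟩ := SerreReg.exists_regular_rsop g R hg
  refine subsingleton_of_lt P hP hneg htors g R ?_ n hn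
  rw [← hl]
  exact hasRegSeq_of_isWeaklyRegular rs R hw fun r hr => hs ▸ Ideal.subset_span hr

include hP hneg htors in
/-- a regular local ring: the degree of the dimension is the degree zero at the residue field -/
theorem nonempty_equiv_of_regular [IsRegularLocalRing R] (g : ℕ) (hg : ringKrullDim R = g)
    (h0 : ∀ (M : ModuleCat.{u} R) (t : CohIII.T P 0 M), ∀ m ∈ maximalIdeal R, m • t = 0) :
    Nonempty (CohIII.T P (g : ℤ) (ModuleCat.of R R) ≃ₗ[R] CohIII.T P 0 (ModuleCat.of R (ResidueField R))) := by
  obtain ⟨rs, hl, hw, hs⟩ := SerreReg.exists_regular_rsop g R hg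
  obtain ⟨e⟩ := nonempty_equiv P hP hneg htors h0 rs R inferInstance hw fun r hr => hs ▸ Ideal.subset_span hr
  rw [hl] at e
  refine ⟨e.trans ((CohIII.TFun P 0).mapIso
    ((Submodule.quotEquivOfEq _ (maximalIdeal R : Submodule R R) ?_).toModuleIso)).toLinearEquiv⟩
  rw [hs, Ideal.smul_eq_mul, Ideal.mul_top]

end Groth.Agent.AVMukai
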