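import Groth.Agent.AVMukai.LocalTors
import Groth.Agent.FlatCx.FlatBC
import Groth.Agent.W7See.SubPiece

/-!
Homology of a complex of finite free modules supported at one regular point.
-/

set_option autoImplicit false
set_option backward.isDefEq.respectTransparency false
set_option backward.isDefEq.respectTransparency.types false
set_option linter.style.haveILetI false
set_option linter.unusedSectionVars false

universe u

open CategoryTheory CategoryTheory.Limits MonoidalCategory IsLocalRing Opposite
open Groth.Agent.FlatCx Groth.Agent.W7Cech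
open scoped TensorProduct

noncomputable section

namespace Groth.Agent.AVMukai

variable {A : Type u} [CommRing A] (p : Ideal A) [p.IsMaximal]

/-- torsion modules at a maximal ideal are local -/
theorem isLocalizedModule_id {N : Type u} [AddCommGroup N] [Module A N]
    (h : ∀ t : N, ∀ x ∈ p, ∃ a : ℕ, x ^ a • t = 0) : IsLocalizedModule p.primeCompl (LinearMap.id : N →ₗ[A] N) := by
  have hann : ∀ (t : N) (s : A), s ∉ p → ∃ b : A, s • b • t = t := fun t s hs => by
    let I := LinearMap.ker (LinearMap.toSpanSingleton A N t)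
    have htop : I ⊔ Ideal.span {s} = ⊤ := by
      by_contra hne
      obtain ⟨q, hq, hle⟩ := Ideal.exists_le_maximal _ hne
      have hpq : p ≤ q := fun x hx => by
        obtain ⟨a, ha⟩ := h t x hx
        exact hq.isPrime.mem_of_pow_mem a (hle (Ideal.mem_sup_left ha))
      rw [← Ideal.IsMaximal.eq_of_le ‹_› hq.ne_top hpq] at hle
      exact hs (hle (Ideal.mem_sup_right (Ideal.mem_span_singleton_self s)))
    obtain ⟨i, hi, j, hj, hij⟩ := Submodule.mem_sup.1 ((Ideal.eq_top_iff_one _).1 htop)
    obtain ⟨b, rfl⟩ := Ideal.mem_span_singleton.1 hj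
    refine ⟨b, ?_⟩
    have h0 : i • t = 0 := hi
    have := congrArg (· • t) hij
    simp only [add_smul, h0, zero_add, one_smul, mul_smul] at this
    exact this
  refine ⟨fun s => ?_, fun y => ⟨(y, 1), one_smul _ y⟩, fun {x y} hxy => ⟨1, congrArg _ hxy⟩⟩
  rw [Module.End.isUnit_iff]
  refine ⟨(injective_iff_map_eq_zero _).2 fun t ht => ?_, fun t => ?_⟩
  · obtain ⟨b, hb⟩ := hann t s.1 s.2
    have ht' : s.1 • t = 0 := ht
    rw [← hb, smul_comm, ht', smul_zero]
  · obtain ⟨b, hb⟩ := hann t s.1 s.2
    exact ⟨b • t, hb⟩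

variable [IsNoetherianRing A] (L : CochainComplex (ModuleCat.{u} A) ℤ)
  (hL : ∀ i, Module.Finite A (L.X i) ∧ Module.Free A (L.X i))
  (hneg : ∀ n : ℤ, n < 0 → ∀ M, IsZero (CohIII.T L n M))
  (hsupp : ∀ (n : ℤ) (y : PrimeSpectrum A), y.asIdeal ≠ p → CohIII.dRank L n y = 0)

include hL hsupp in
omit [p.IsMaximal] in
/-- homology is torsion at the point -/
theorem htors (n : ℤ) (M : ModuleCat.{u} A) (t : CohIII.T L n M) (x : A) (hx : x ∈ p) :
    ∃ a : ℕ, x ^ a • t = 0 := by
  let S := Submonoid.powers x
  let Ax := Localization S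
  haveI : IsNoetherianRing Ax := IsLocalization.isNoetherianRing S Ax inferInstance
  let M' : ModuleCat.{u} A := ModuleCat.of A (LocalizedModule S M)
  let g : M ⟶ M' := ModuleCat.ofHom (LocalizedModule.mkLinearMap S M)
  haveI : IsLocalizedModule S g.hom := inferInstanceAs (IsLocalizedModule S (LocalizedModule.mkLinearMap S M))
  refine exists_pow_smul_eq_zero L g n ?_ t
  have hz : IsZero (CohIII.T (CohIII.bcCx (algebraMap A Ax) L) n (ModuleCat.of Ax (LocalizedModule S M))) := by
    refine isZero_T_of_dRank _ (finite_free_bc L hL Ax) n (fun y => ?_) _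
    rw [dRank_bcCx]
    refine hsupp n _ fun hp => ?_
    have hu : IsUnit (algebraMap A Ax x) := IsLocalization.map_units Ax (⟨x, Submonoid.mem_powers x⟩ : S)
    exact y.isPrime.ne_top (Ideal.eq_top_of_isUnit_mem _
      (show x ∈ (PrimeSpectrum.comap (algebraMap A Ax) y).asIdeal from hp ▸ hx) hu)
  obtain ⟨η⟩ := nonempty_TFun_bcCx Ax (algebraMap A Ax) L n
  let j : M' ≅ (ModuleCat.restrictScalars (algebraMap A Ax)).obj (ModuleCat.of Ax (LocalizedModule S M)) :=
    LinearEquiv.toModuleIso
      ({ toFun := fun m => m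
         invFun := fun m => m
         map_add' := fun _ _ => rfl
         map_smul' := fun r m => (algebraMap_smul (M := LocalizedModule S M) Ax r m).symm } :
        (LocalizedModule S M) ≃ₗ[A]
          ((ModuleCat.restrictScalars (algebraMap A Ax)).obj (ModuleCat.of Ax (LocalizedModule S M)) : Type u))
  haveI := ModuleCat.subsingleton_of_isZero hz
  haveI : Subsingleton ((CohIII.TFun (CohIII.bcCx (algebraMap A Ax) L) n ⋙
      ModuleCat.restrictScalars (algebraMap A Ax)).obj (ModuleCat.of Ax (LocalizedModule S M))) := this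
  exact (((CohIII.TFun L n).mapIso j ≪≫ η.app _).toLinearEquiv).injective.subsingleton

include hL hsupp in
/-- homology is computed after localising at the point -/
theorem nonempty_Hm_equiv (n : ℤ) :
    Nonempty (Hm L n ≃ₗ[A] ((ModuleCat.restrictScalars (algebraMap A (Localization.AtPrime p))).obj
      (CohIII.T (locCx L p) n (ModuleCat.of (Localization.AtPrime p) (Localization.AtPrime p))) : Type u)) := by
  let R := Localization.AtPrime p
  haveI : IsLocalizedModule p.primeCompl (LinearMap.id : Hm L n →ₗ[A] Hm L n) := isLocalizedModule_id p fun t x hx => by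
    let e := HmEquivT L (flatX L hL) n
    obtain ⟨a, ha⟩ := htors p L hL hsupp n _ (e t) x hx
    exact ⟨a, e.injective (by rw [map_smul, ha, map_zero])⟩
  obtain ⟨e₁⟩ := homology_flatBC R L n
  let e₂ := (homologyHmEquiv (locCx L p) n).trans (HmEquivT (locCx L p) (flat_locCx L hL p) n)
  let E := e₁.symm.trans e₂
  let E' : R ⊗[A] Hm L n ≃ₗ[A] ((ModuleCat.restrictScalars (algebraMap A R)).obj
      (CohIII.T (locCx L p) n (ModuleCat.of R R)) : Type u) :=
    { E.toAddEquiv with
      map_smul' := fun r x => by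
        change E (r • x) = algebraMap A R r • E x
        rw [← map_smul, algebraMap_smul] }
  exact ⟨(IsLocalizedModule.linearEquiv p.primeCompl LinearMap.id (TensorProduct.mk A R (Hm L n) 1)).trans E'⟩

include hL hneg hsupp in
/-- degrees below the dimension vanish -/
theorem subsingleton_Hm [IsRegularLocalRing (Localization.AtPrime p)] (g : ℕ)
    (hg : ringKrullDim (Localization.AtPrime p) = g) (n : ℤ) (hn : n < g) : Subsingleton (Hm L n) := by
  obtain ⟨e⟩ := (nonempty_Hm_equiv p L hL hsupp n)
  haveI := subsingleton_of_regular (locCx L p) (flat_locCx L hL p) (hneg_locCx L p hneg)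
    (htors_locCx L hL p hsupp) g hg n hn
  haveI : Subsingleton ((ModuleCat.restrictScalars (algebraMap A (Localization.AtPrime p))).obj
      (CohIII.T (locCx L p) n (ModuleCat.of (Localization.AtPrime p) (Localization.AtPrime p))) : Type u) := this
  exact e.injective.subsingleton

include hL hneg hsupp in
/-- a cyclic reduced corepresenting module gives the residue field in the degree of the dimension -/
theorem nonempty_Hm_residue [IsRegularLocalRing (Localization.AtPrime p)] (g : ℕ)
    (hg : ringKrullDim (Localization.AtPrime p) = g) (Q : ModuleCat.{u} A)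
    (η : CohIII.TFun L 0 ≅ (linearCoyoneda A (ModuleCat.{u} A)).obj (op Q)) (a : A) (ha : a ∉ p) (q : Q)
    (hcyc : ∀ v : Q, ∃ c : A, a • v = c • q) (hJ : ∀ j : A, j • q = 0 → j ∈ p)
    (hkill : ∀ j ∈ p, ∀ v : Q, ∃ n : ℕ, a ^ n • j • v = 0) :
    Nonempty (Hm L (g : ℤ) ≃ₗ[A] ResidueField (Localization.AtPrime p)) := by
  let R := Localization.AtPrime p
  let P := locCx L p
  obtain ⟨η'⟩ := nonempty_TFun_bcCx R (algebraMap A R) L 0
  have hu : IsUnit (algebraMap A R a) := IsLocalization.map_units R (⟨a, ha⟩ : p.primeCompl)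
  have key : ∀ (M : ModuleCat.{u} R) (j : A), j ∈ p → ∀ t : CohIII.T P 0 M, algebraMap A R j • t = 0 := by
    intro M j hj t
    let M₀ := (ModuleCat.restrictScalars (algebraMap A R)).obj M
    let e : CohIII.T L 0 M₀ ≃ₗ[A] ((Q : Type u) →ₗ[A] M₀) :=
      (η.app M₀).toLinearEquiv.trans (ModuleCat.homLinearEquiv (R := A))
    obtain ⟨t₀, ht₀⟩ := (η'.app M).toLinearEquiv.surjective t
    have h0 : j • t₀ = 0 := e.injective (LinearMap.ext fun v => by
      rw [map_smul, map_zero, LinearMap.smul_apply, LinearMap.zero_apply]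
      obtain ⟨n, hn⟩ := hkill j hj v
      have h1 : a ^ n • (j • e t₀ v) = (0 : M₀) := by rw [← map_smul, ← map_smul, hn, map_zero]
      have h2 : algebraMap A R (a ^ n) • (show M from j • e t₀ v) = 0 := h1
      exact ((map_pow (algebraMap A R) a n).symm ▸ hu.pow n).smul_eq_zero.1 h2)
    have h3 := congrArg (η'.app M).toLinearEquiv h0
    rw [map_smul, map_zero, ht₀] at h3
    exact h3
  have h0 : ∀ (M : ModuleCat.{u} R) (t : CohIII.T P 0 M), ∀ m ∈ maximalIdeal R, m • t = 0 := by
    intro M t m hm
    rw [← Localization.AtPrime.map_eq_maximalIdeal] at hm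
    refine Submodule.span_induction (p := fun m _ => m • t = 0) ?_ (zero_smul _ t) ?_ ?_ hm
    · rintro _ ⟨j, hj, rfl⟩
      exact key M j hj t
    · intro x y _ _ hx hy; rw [add_smul, hx, hy, add_zero]
    · intro r x _ hx; rw [smul_assoc, hx, smul_zero]
  obtain ⟨e⟩ := (nonempty_Hm_equiv p L hL hsupp (g : ℤ))
  obtain ⟨e'⟩ := nonempty_equiv_of_regular P (flat_locCx L hL p) (hneg_locCx L p hneg) (htors_locCx L hL p hsupp)
    g hg h0
  obtain ⟨e₀⟩ := W7See.exists_T_equiv_self L Q η (ResidueField R) q hcyc (fun j hj => by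
      rw [IsScalarTower.algebraMap_apply A R (ResidueField R)]
      change residue R (algebraMap A R j) = 0
      rw [residue_eq_zero_iff]
      exact (IsLocalization.AtPrime.to_map_mem_maximal_iff R p j).2 (hJ j hj))
    (by rw [IsScalarTower.algebraMap_apply A R (ResidueField R)]; exact hu.map (residue R))
  let j : (ModuleCat.restrictScalars (algebraMap A R)).obj (ModuleCat.of R (ResidueField R)) ≅
      ModuleCat.of A (ResidueField R) := LinearEquiv.toModuleIso
    ({ toFun := fun m => m
       invFun := fun m => m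
       map_add' := fun _ _ => rfl
       map_smul' := fun r (m : ResidueField R) =>
         (IsScalarTower.algebraMap_smul R r m) } :
      ((ModuleCat.restrictScalars (algebraMap A R)).obj (ModuleCat.of R (ResidueField R)) : Type u) ≃ₗ[A] ResidueField R)
  let e₁ : ((ModuleCat.restrictScalars (algebraMap A R)).obj
      (CohIII.T P 0 (ModuleCat.of R (ResidueField R))) : Type u) ≃ₗ[A] ResidueField R :=
    LinearEquiv.trans (M₂ := CohIII.T L 0 (ModuleCat.of A (ResidueField R)))
      (((η'.app _).symm ≪≫ (CohIII.TFun L 0).mapIso j).toLinearEquiv) e₀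
  exact ⟨e.trans ((((ModuleCat.restrictScalars (algebraMap A R)).mapIso e'.toModuleIso).toLinearEquiv).trans e₁)⟩

end Groth.Agent.AVMukai
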