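import Groth.Agent.AVMukai.LocalAlg
import Groth.Agent.W7Cech.NNGrauert

/-!
The hypotheses of the local lemmas for the localisation of a complex supported at a point.
-/

set_option autoImplicit false
set_option backward.isDefEq.respectTransparency false
set_option backward.isDefEq.respectTransparency.types false
set_option linter.style.haveILetI false
set_option linter.unusedSectionVars false

universe u

open CategoryTheory CategoryTheory.Limits MonoidalCategory IsLocalRing
open Groth.Agent.FlatCx Groth.Agent.W7Cech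
open scoped TensorProduct

noncomputable section

namespace Groth.Agent.AVMukai

variable {R : Type u} [CommRing R]

lemma isLocalizedModule_lTensor (S : Submonoid R) {M M' : Type u} [AddCommGroup M] [Module R M] [AddCommGroup M']
    [Module R M'] (g : M →ₗ[R] M') [IsLocalizedModule S g] (X : Type u) [AddCommGroup X] [Module R X] :
    IsLocalizedModule S (g.lTensor X) := by
  haveI : IsLocalizedModule S (g.rTensor X) :=
    inferInstanceAs (IsLocalizedModule S (TensorProduct.AlgebraTensorModule.rTensor R X g))
  haveI := IsLocalizedModule.of_linearEquiv S (g.rTensor X) (TensorProduct.comm R M' X)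
  have e : g.lTensor X = ((TensorProduct.comm R M' X).toLinearMap ∘ₗ g.rTensor X) ∘ₗ
      (TensorProduct.comm R X M).toLinearMap :=
    TensorProduct.ext' fun a b => rfl
  rw [e]
  exact IsLocalizedModule.of_linearEquiv_right _ _ _

variable (P : CochainComplex (ModuleCat.{u} R) ℤ)

/-- homology dying at a localisation is torsion -/
theorem exists_pow_smul_eq_zero {x : R} {M M' : ModuleCat.{u} R} (g : M ⟶ M')
    [IsLocalizedModule (Submonoid.powers x) g.hom] (n : ℤ) (h : Subsingleton (CohIII.T P n M'))
    (t : CohIII.T P n M) : ∃ a : ℕ, x ^ a • t = 0 := by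
  obtain ⟨z, rfl⟩ := cls_surjective P n M t
  haveI := h
  have h0 : (CohIII.TFun P n).map g (cls P n M z) = 0 := Subsingleton.elim (α := CohIII.T P n M') _ _
  rw [TFun_map_cls] at h0
  obtain ⟨v, hv⟩ := (cls_eq_zero_iff P n M' _).1 h0
  haveI := isLocalizedModule_lTensor (Submonoid.powers x) g.hom (P.X ((ComplexShape.up ℤ).prev n))
  haveI := isLocalizedModule_lTensor (Submonoid.powers x) g.hom (P.X n)
  obtain ⟨⟨w, s⟩, hw⟩ := IsLocalizedModule.surj (Submonoid.powers x) (g.hom.lTensor (P.X ((ComplexShape.up ℤ).prev n))) v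
  have h1 : g.hom.lTensor (P.X n) (s.1 • z.1) = g.hom.lTensor (P.X n) (dT P M ((ComplexShape.up ℤ).prev n) n w) := by
    rw [← dT_comm, ← hw, map_smul]
    change s.1 • _ = dT P M' _ n (s.1 • v)
    rw [map_smul, hv]
  obtain ⟨s', hs'⟩ := IsLocalizedModule.exists_of_eq (S := Submonoid.powers x) h1
  obtain ⟨a, ha⟩ := (Submonoid.mem_powers_iff _ _).1 s.2
  obtain ⟨b, hb⟩ := (Submonoid.mem_powers_iff _ _).1 s'.2
  refine ⟨b + a, ?_⟩
  rw [← map_smul, cls_eq_zero_iff]
  refine ⟨x ^ b • w, ?_⟩
  rw [map_smul]
  change _ = x ^ (b + a) • z.1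
  rw [pow_add, mul_smul, ha, hb]
  exact hs'.symm

variable {A : Type u} [CommRing A] (L : CochainComplex (ModuleCat.{u} A) ℤ)
  (hL : ∀ i, Module.Finite A (L.X i) ∧ Module.Free A (L.X i))

include hL in
lemma finite_free_bc (B : Type u) [CommRing B] [Algebra A B] (i : ℤ) :
    Module.Finite B ((CohIII.bcCx (algebraMap A B) L).X i) ∧ Module.Free B ((CohIII.bcCx (algebraMap A B) L).X i) := by
  obtain ⟨φ, rfl⟩ : ∃ φ : A →+* B, ‹Algebra A B› = φ.toAlgebra :=
    ⟨algebraMap A B, Algebra.algebra_ext _ _ fun _ => rfl⟩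
  letI := φ.toAlgebra
  haveI := (hL i).1
  haveI := (hL i).2
  exact ⟨inferInstanceAs (Module.Finite B (B ⊗[A] (L.X i : Type u))),
    inferInstanceAs (Module.Free B (B ⊗[A] (L.X i : Type u)))⟩

lemma isZero_T_bc (B : Type u) [CommRing B] [Algebra A B] (n : ℤ) (h : ∀ M, IsZero (CohIII.T L n M))
    (M : ModuleCat.{u} B) : IsZero (CohIII.T (CohIII.bcCx (algebraMap A B) L) n M) := by
  obtain ⟨η⟩ := nonempty_TFun_bcCx B (algebraMap A B) L n
  haveI := ModuleCat.subsingleton_of_isZero ((h _).of_iso (η.app M).symm)
  haveI : Subsingleton (CohIII.T (CohIII.bcCx (algebraMap A B) L) n M) := this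
  exact ModuleCat.isZero_of_subsingleton _

variable (p : Ideal A) [p.IsPrime] [IsNoetherianRing A]

/-- the localised complex -/
abbrev locCx : CochainComplex (ModuleCat.{u} (Localization.AtPrime p)) ℤ :=
  CohIII.bcCx (algebraMap A (Localization.AtPrime p)) L

include hL in
lemma flat_locCx (i : ℤ) : Module.Flat (Localization.AtPrime p) ((locCx L p).X i) :=
  haveI := (finite_free_bc L hL (Localization.AtPrime p) i).2
  inferInstance

lemma hneg_locCx (hneg : ∀ n : ℤ, n < 0 → ∀ M, IsZero (CohIII.T L n M)) (n : ℤ) (hn : n < 0)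
    (M : ModuleCat.{u} (Localization.AtPrime p)) : IsZero (CohIII.T (locCx L p) n M) :=
  isZero_T_bc L _ n (hneg n hn) M

include hL in
/-- away from the point the homology of the localised complex dies -/
theorem htors_locCx (hsupp : ∀ (n : ℤ) (y : PrimeSpectrum A), y.asIdeal ≠ p → CohIII.dRank L n y = 0)
    (n : ℤ) (M : ModuleCat.{u} (Localization.AtPrime p)) (t : CohIII.T (locCx L p) n M)
    (x : Localization.AtPrime p) (hx : x ∈ maximalIdeal (Localization.AtPrime p)) : ∃ a : ℕ, x ^ a • t = 0 := by
  let R := Localization.AtPrime p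
  let S := Submonoid.powers x
  let Rx := Localization S
  let P := locCx L p
  haveI : IsNoetherianRing Rx := IsLocalization.isNoetherianRing S Rx inferInstance
  let M' : ModuleCat.{u} R := ModuleCat.of R (LocalizedModule S M)
  let g : M ⟶ M' := ModuleCat.ofHom (LocalizedModule.mkLinearMap S M)
  haveI : IsLocalizedModule S g.hom := inferInstanceAs (IsLocalizedModule S (LocalizedModule.mkLinearMap S M))
  refine exists_pow_smul_eq_zero P g n ?_ t
  have hz : IsZero (CohIII.T (CohIII.bcCx (algebraMap R Rx) P) n (ModuleCat.of Rx (LocalizedModule S M))) := by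
    refine isZero_T_of_dRank _ (finite_free_bc P (finite_free_bc L hL R) Rx) n (fun y => ?_) _
    rw [dRank_bcCx, dRank_bcCx]
    refine hsupp n _ fun hp => ?_
    let q := PrimeSpectrum.comap (algebraMap R Rx) y
    have hq : q.asIdeal = maximalIdeal R := by
      have h1 : q.asIdeal.comap (algebraMap A R) = p := hp
      rw [← IsLocalization.map_comap p.primeCompl R q.asIdeal, Ideal.under_def, h1,
        Localization.AtPrime.map_eq_maximalIdeal]
    have hu : IsUnit (algebraMap R Rx x) := IsLocalization.map_units Rx (⟨x, Submonoid.mem_powers x⟩ : S)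
    exact y.isPrime.ne_top (Ideal.eq_top_of_isUnit_mem _ (show x ∈ q.asIdeal from hq ▸ hx) hu)
  obtain ⟨η⟩ := nonempty_TFun_bcCx Rx (algebraMap R Rx) P n
  let j : M' ≅ (ModuleCat.restrictScalars (algebraMap R Rx)).obj (ModuleCat.of Rx (LocalizedModule S M)) :=
    LinearEquiv.toModuleIso
      ({ toFun := fun m => m
         invFun := fun m => m
         map_add' := fun _ _ => rfl
         map_smul' := fun r m => (algebraMap_smul (M := LocalizedModule S M) Rx r m).symm } :
        (LocalizedModule S M) ≃ₗ[R]
          ((ModuleCat.restrictScalars (algebraMap R Rx)).obj (ModuleCat.of Rx (LocalizedModule S M)) : Type u))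
  haveI := ModuleCat.subsingleton_of_isZero hz
  haveI : Subsingleton ((CohIII.TFun (CohIII.bcCx (algebraMap R Rx) P) n ⋙
      ModuleCat.restrictScalars (algebraMap R Rx)).obj (ModuleCat.of Rx (LocalizedModule S M))) := this
  exact (((CohIII.TFun P n).mapIso j ≪≫ η.app _).toLinearEquiv).injective.subsingleton

end Groth.Agent.AVMukai
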