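import Groth.Agent.AVMukai.Sides
import Groth.Agent.W7See.Subscheme

/-!
The seesaw locus of the Poincaré bundle is the reduced origin.
-/

set_option autoImplicit false
set_option backward.isDefEq.respectTransparency false
set_option backward.isDefEq.respectTransparency.types false
set_option linter.style.haveILetI false
set_option linter.unusedSectionVars false
set_option maxHeartbeats 2000000

universe u

open CategoryTheory MonoidalCategory CartesianMonoidalCategory MonObj GrpObj AlgebraicGeometry TopologicalSpace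
open Groth.Agent.W7Cube (pull pull_pull pull_cls)
open Groth.Agent.AbPrim (val pull_val)
open Groth.Agent.W7See (LT Cyc)

noncomputable section

namespace Groth.Agent.AVMukai

attribute [local instance] W7Cube.law

section General

variable {X S : Scheme.{u}} {f : X ⟶ S} [IsProper f] [Flat f] [GeometricallyIntegral f] [IsLocallyNoetherian S]
  {L L' : X.Modules}

/-- a presentation of a translate over the base is degenerate where the original one is -/
theorem J_le_of_translate (hL : PicF.IsInvertible L) (τ : X ⟶ X) [IsIso τ] (hτ : τ ≫ f = f) {U : S.Opens}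
    {hU : IsAffineOpen U} (C : Cyc (f := f) L U hU)
    (C' : Cyc (f := f) ((Scheme.Modules.pullback τ).obj L) U hU) :
    C'.J ≤ (C.J.map (QC.resO S (S.basicOpen_le (C.a * C'.a)))).comap (QC.resO S (S.basicOpen_le (C.a * C'.a))) := by
  intro j hj
  haveI : LocallyOfFinitePresentation f := InfLift.lfp_of_lft f
  let a := C.a * C'.a
  let D := S.basicOpen a
  have hD : IsAffineOpen D := hU.basicOpen a
  have hDU : D ≤ U := S.basicOpen_le a
  let r := QC.resO S hDU
  let I := C.J.map r
  let u : Spec (CommRingCat.of (Γ(S, D) ⧸ I)) ⟶ S := W7See.piece hD I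
  have hVU : (⊤ : (Spec (CommRingCat.of (Γ(S, D) ⧸ I))).Opens) ≤ u ⁻¹ᵁ U := W7See.piece_le hD _ hDU
  have hua : IsUnit ((u.appLE U ⊤ hVU).hom a) := by
    rw [W7See.piece_appLE hD hDU]
    exact ((RingedSpace.isUnit_res_basicOpen _ a).map (Ideal.Quotient.mk _)).map _
  rw [map_mul, IsUnit.mul_iff] at hua
  have hui : ∀ i ∈ C.J, (u.appLE U ⊤ hVU).hom i = 0 := fun i hi => by
    rw [W7See.piece_appLE hD hDU, Ideal.Quotient.eq_zero_iff_mem.2 (Ideal.mem_map_of_mem r hi), map_zero]
  let f' := Limits.pullback.snd f u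
  let g' := Limits.pullback.fst f u
  have sq : IsPullback g' f' f u := IsPullback.of_hasPullback f u
  have sq' : IsPullback (g' ≫ τ) f' f u := by
    have h : IsPullback τ f f (𝟙 S) := IsPullback.of_horiz_isIso ⟨by rw [hτ, Category.comp_id]⟩
    have := sq.paste_horiz h
    rwa [Category.comp_id] at this
  obtain ⟨e, he⟩ := W7See.exists_sections_equiv (TMul.isQCoh_of_isInvertible hL) C.m C.Q C.η C.q C.hq sq'
    (isAffineOpen_top _) hVU hua.1 hui
  let s : Γ((Scheme.Modules.pullback (g' ≫ τ)).obj L, f' ⁻¹ᵁ ⊤) := e.symm 1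
  let Θ := (Scheme.Modules.pullbackComp g' τ).app L
  have hk := W7See.smul_sections_eq_zero (TMul.isQCoh_of_isInvertible (PicLoc.isInvertible_pullback τ hL)) C'.m
    C'.Q C'.η (a := C'.a) (j := j) (fun v => by simpa using C'.kills hj (b := 1) v) sq (isAffineOpen_top _) hVU hua.2
    (Θ.inv.app _ s)
  have hk' : (f'.app ⊤).hom ((u.appLE U ⊤ hVU).hom j) • Θ.hom.app _ (Θ.inv.app _ s) = 0 :=
    (Scheme.Modules.Hom.app_smul Θ.hom _ _).symm.trans ((congrArg (Θ.hom.app _) hk).trans (map_zero _))
  have hθ : Θ.hom.app _ (Θ.inv.app _ s) = s := congr(($(Θ.inv_hom_id)).app _ s)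
  rw [hθ] at hk'
  have h1 := he j s
  rw [hk', map_zero, e.apply_symm_apply, _root_.mul_one, W7See.piece_appLE hD hDU] at h1
  refine Ideal.mem_comap.2 ?_
  exact Ideal.Quotient.eq_zero_iff_mem.1 ((map_eq_zero_iff _
    (ConcreteCategory.bijective_of_isIso (Scheme.ΓSpecIso (CommRingCat.of (Γ(S, D) ⧸ I))).inv).1).1 h1.symm)

end General

variable {k : Type u} [Field k] {A At : Over (Spec (CommRingCat.of k))} [GrpObj A] [IsProper A.hom] [Smooth A.hom]
  [GeometricallyConnected A.hom] [GeometricallyIntegral A.hom] [GrpObj At] [IsProper At.hom] [Smooth At.hom]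
  [GeometricallyConnected At.hom] [IsLocallyNoetherian At.left]
  {φ : ∀ T : Over (Spec (CommRingCat.of k)), PicF.Cl (PicF.XT A.hom T) → (T ⟶ At)}
  (hA : AbDual.IsDualAV Scheme.fppfPrecoverage A At φ) (Q : AgSymm.Poincare φ)
  {P : (A ⊗ At).left.Modules} (hP : PicF.IsInvertible P) (hQ : Q.x = PicGrp.cls P hP)

include hA hQ in
/-- where the bundle is locally trivial over the base the point is trivial -/
theorem eq_one_of_LT {T : Over (Spec (CommRingCat.of k))} (t : T ⟶ At)
    (h : LT (Limits.pullback.snd A.hom At.hom) P t.left) : t = 1 := by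
  obtain ⟨M, hM, ⟨i⟩⟩ := (W7See.exists_iff_lt _ P hP t.left).1 h
  have hMi := ZeroSch.isInvertible_of_rankOne hM
  have hg := FMTool.isPullback_whiskerLeft (A := A) t
  let g : (A ⊗ T).left ⟶ Limits.pullback (Limits.pullback.snd A.hom At.hom) t.left := hg.isoPullback.hom
  have e : pull (A ◁ t).left Q.x = pull (snd A T).left (PicGrp.cls M hMi) := by
    have e0 : PicGrp.cls _ (PicLoc.isInvertible_pullback (Limits.pullback.fst _ t.left) hP) =
        PicGrp.cls _ (PicLoc.isInvertible_pullback (Limits.pullback.snd (Limits.pullback.snd A.hom At.hom) t.left) hMi) :=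
      (PicGrp.cls_eq_cls_iff _ _).2 ⟨i⟩
    rw [← pull_cls _ P hP, ← pull_cls _ M hMi] at e0
    have e1 := congrArg (pull g) e0
    rw [pull_pull, pull_pull, show g ≫ Limits.pullback.fst _ t.left = (A ◁ t).left from hg.isoPullback_hom_fst,
      show g ≫ Limits.pullback.snd _ t.left = (snd A T).left from hg.isoPullback_hom_snd, ← hQ] at e1
    exact e1
  have h1 : PicGrp.cls M hMi = 1 := by
    have e2 := congrArg (pull (lift (1 : T ⟶ A) (𝟙 T)).left) e
    rw [pull_pull, pull_pull, ← Over.comp_left, ← Over.comp_left, lift_whiskerLeft, lift_snd, Category.id_comp,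
      Over.id_left] at e2
    exact ((PicGrp.pullHom_id_apply _ _).symm.trans e2.symm).trans (Q.val_one_left _)
  refine eq_one_of_pull hA Q t ?_
  rw [e, h1, map_one]

include hA hQ in
/-- the bundle is trivial at the origin -/
theorem nonempty_triv_one (T : Over (Spec (CommRingCat.of k))) :
    Nonempty ((Scheme.Modules.pullback (Limits.pullback.fst (Limits.pullback.snd A.hom At.hom)
      (1 : T ⟶ At).left)).obj P ≅ Coh.structureModule _) := by
  have hg := FMTool.isPullback_whiskerLeft (A := A) (1 : T ⟶ At)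
  let g := hg.isoPullback
  have h1 : pull (A ◁ (1 : T ⟶ At)).left Q.x = 1 := by rw [pull_whiskerLeft, cls_one hA]
  have h2 : pull (Limits.pullback.fst (Limits.pullback.snd A.hom At.hom) (1 : T ⟶ At).left) (PicGrp.cls P hP) = 1 := by
    have e : Limits.pullback.fst (Limits.pullback.snd A.hom At.hom) (1 : T ⟶ At).left = g.inv ≫ (A ◁ (1 : T ⟶ At)).left :=
      (Iso.eq_inv_comp g).2 hg.isoPullback_hom_fst
    rw [e, ← pull_pull, ← hQ]
    exact (congrArg (pull g.inv) h1).trans (map_one _)
  rw [pull_cls] at h2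
  exact (PicGrp.cls_eq_one_iff _).1 h2

include hA hQ in
/-- local triviality at the origin -/
theorem lt_one (T : Over (Spec (CommRingCat.of k))) :
    LT (Limits.pullback.snd A.hom At.hom) P (1 : T ⟶ At).left :=
  (W7See.exists_iff_lt _ P hP _).2 ⟨Coh.structureModule T.left, CurveRR.isFinLocFreeOfRank_one
    TMul.isInvertible_structureModule, ⟨(nonempty_triv_one hA Q hP hQ T).some ≪≫ (PicLoc.pullbackStructureIso _).symm⟩⟩

variable [LocallyOfFiniteType (Limits.pullback.snd A.hom At.hom)]

include hA hQ in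
/-- the annihilator of the generator at the origin is the maximal ideal -/
theorem exists_cyc_org {U : At.left.Opens} (hU : IsAffineOpen U) (hoU : org At ∈ U) :
    ∃ C : Cyc (f := Limits.pullback.snd A.hom At.hom) P U hU, ∃ a : Γ(At.left, U),
      a ∉ (hU.primeIdealOf ⟨org At, hoU⟩).asIdeal ∧ (∀ v : C.Q, ∃ c : Γ(At.left, U), a • v = c • C.q) ∧
        (∀ j : Γ(At.left, U), j • C.q = 0 → j ∈ (hU.primeIdealOf ⟨org At, hoU⟩).asIdeal) ∧
        ∀ j ∈ (hU.primeIdealOf ⟨org At, hoU⟩).asIdeal, ∀ v : C.Q, ∃ n : ℕ, a ^ n • j • v = 0 := by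
  let f := Limits.pullback.snd A.hom At.hom
  haveI : Subsingleton (Spec (CommRingCat.of k)) := inferInstanceAs (Subsingleton (PrimeSpectrum k))
  -- the translate by inversion in the group variable
  let τ : A ⊗ At ⟶ A ⊗ At := (𝟙 A)⁻¹ ▷ At
  haveI : IsIso ((𝟙 A)⁻¹ : A ⟶ A) := ⟨(𝟙 A)⁻¹, by rw [comp_inv, Category.comp_id, _root_.inv_inv], by
    rw [comp_inv, Category.comp_id, _root_.inv_inv]⟩
  haveI : IsIso τ.left := inferInstanceAs (IsIso ((Over.forget _).map ((𝟙 A)⁻¹ ▷ At)))
  have hτ : τ.left ≫ f = f := congrArg (fun m => m.left) (whiskerRight_snd (𝟙 A)⁻¹ At)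
  let P'' := (Scheme.Modules.pullback τ.left).obj P
  have hP'' : PicF.IsInvertible P'' := PicLoc.isInvertible_pullback _ hP
  obtain ⟨ε⟩ : Nonempty (CohB1.tensorMod P P'' ≅ Coh.structureModule (A ⊗ At).left) := by
    refine (PicGrp.cls_eq_one_iff (TMul.isInvertible_tensorMod hP hP'')).1 ?_
    change PicGrp.cls P hP * PicGrp.cls P'' hP'' = 1
    rw [← pull_cls τ.left P hP, ← hQ]
    conv_lhs => arg 1; rw [← FMTool.val_fst_snd Q]
    have e : τ = lift ((fst A At)⁻¹) (snd A At) := CartesianMonoidalCategory.hom_ext _ _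
      (by simp only [τ, whiskerRight_fst, lift_fst, comp_inv, Category.comp_id]) (by simp [τ])
    rw [e]
    change val Q.x (fst A At) (snd A At) * val Q.x (fst A At)⁻¹ (snd A At) = 1
    rw [← Q.val_mul_left, mul_inv_cancel, Q.val_one_left]
  -- rank one at the origin
  have hb := W7See.bijective_fiber f (org At)
  have htriv : Nonempty (CohIII.fiberMod f P (org At) ≅ Coh.structureModule (f.fiber (org At))) := by
    let o := At.left.fromSpecResidueField (org At)
    have hres : resHom At (org At) = 1 := Over.OverMorphism.ext (by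
      rw [Hom.one_def, Over.comp_left]
      have hw : (o ≫ At.hom) ≫ η[At].left = o := by
        rw [Category.assoc]
        exact W7Cube.fromSpecResidueField_section η[At].left At.hom (Over.w η[At]) (IsLocalRing.closedPoint k)
      exact hw.symm)
    have h := nonempty_triv_one hA Q hP hQ (resPt At (org At))
    rw [← hres] at h
    exact h
  obtain ⟨C, hC⟩ := W7See.exists_cyc hP hU (org At) hoU (W7See.fiberRank_eq_one f P _ hb htriv.some).le
  have htriv' : Nonempty (CohIII.fiberMod f P'' (org At) ≅ Coh.structureModule (f.fiber (org At))) := by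
    obtain ⟨b⟩ := TMul.nonempty_pullTensorIso (f.fiberι (org At)) P P''
    exact ⟨(TMul.leftUnitIso _).symm ≪≫ PicGrp.tensorModIso htriv.some.symm (Iso.refl _) ≪≫
      (b ≪≫ (Scheme.Modules.pullback _).mapIso ε ≪≫ PicLoc.pullbackStructureIso _)⟩
  obtain ⟨C', hC'⟩ := W7See.exists_cyc hP'' hU (org At) hoU (W7See.fiberRank_eq_one f P'' _ hb htriv'.some).le
  let a := C.a * C'.a
  have haU : org At ∈ At.left.basicOpen a := by rw [Scheme.basicOpen_mul]; exact ⟨hC, hC'⟩
  let D := At.left.basicOpen a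
  have hD : IsAffineOpen D := hU.basicOpen a
  have hDU : D ≤ U := At.left.basicOpen_le a
  let r := QC.resO At.left hDU
  -- the pairing of the two presentations
  have hJ' : C'.J ≤ (C.J.map r).comap r := J_le_of_translate hP τ.left hτ C C'
  -- the piece is the origin
  have hle : (hU.primeIdealOf ⟨org At, hoU⟩).asIdeal ≤ (C.J.map r).comap r := fun j hj => by
    have hI : (C.J ⊔ C'.J).map r = C.J.map r :=
      le_antisymm (Ideal.map_le_iff_le_comap.2 (sup_le Ideal.le_comap_map hJ')) (Ideal.map_mono le_sup_left)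
    rw [← hI]
    let I := (C.J ⊔ C'.J).map r
    let u := W7See.piece hD I
    let T : Over (Spec (CommRingCat.of k)) := Over.mk (u ≫ At.hom)
    have h1 := eq_one_of_LT hA Q hP hQ (Over.homMk u rfl : T ⟶ At) (W7See.lt_piece hP hP'' ε C C')
    have hu : u = (u ≫ At.hom) ≫ η[At].left := by
      have := congrArg (fun m : T ⟶ At => m.left) h1
      rw [Hom.one_def, Over.comp_left] at this
      exact this
    have hj0 : (η[At].left.app U).hom j = 0 := by
      have hη : ∀ x : Spec (CommRingCat.of k), η[At].left x = org At := fun x =>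
        congrArg η[At].left (Subsingleton.elim (α := Spec (CommRingCat.of k)) x _)
      have hb : (Spec (CommRingCat.of k)).basicOpen ((η[At].left.app U).hom j) = ⊥ := by
        refine (Scheme.preimage_basicOpen η[At].left j).symm.trans ?_
        refine Opens.ext (Set.eq_empty_of_forall_notMem fun x hx => ?_)
        have hx' : η[At].left x ∈ At.left.basicOpen j := hx
        rw [hη x, WeakAssLib.mem_primeIdealOf hU hoU] at hx'
        exact hx' hj
      haveI : AlgebraicGeometry.IsReduced (𝟙_ (Over (Spec (CommRingCat.of k)))).left :=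
        inferInstanceAs (AlgebraicGeometry.IsReduced (Spec (CommRingCat.of k)))
      exact eq_zero_of_basicOpen_eq_bot _ hb
    have hVU : (⊤ : (Spec (CommRingCat.of (Γ(At.left, D) ⧸ I))).Opens) ≤ u ⁻¹ᵁ U := W7See.piece_le hD _ hDU
    have h0 : (u.appLE U ⊤ hVU).hom j = 0 := by
      have key : ∀ (w : _ ⟶ At.left) (hw : w = (u ≫ At.hom) ≫ η[At].left) (hwU : ⊤ ≤ w ⁻¹ᵁ U),
          (w.appLE U ⊤ hwU).hom j = 0 := by
        rintro w rfl hwU
        rw [Scheme.Hom.comp_appLE, CommRingCat.comp_apply]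
        exact (congrArg _ hj0).trans (map_zero _)
      exact key u hu hVU
    rw [W7See.piece_appLE hD hDU] at h0
    refine Ideal.mem_comap.2 ?_
    exact Ideal.Quotient.eq_zero_iff_mem.1 ((map_eq_zero_iff _
      (ConcreteCategory.bijective_of_isIso (Scheme.ΓSpecIso (CommRingCat.of (Γ(At.left, D) ⧸ I))).inv).1).1 h0)
  refine ⟨C, a, (WeakAssLib.mem_primeIdealOf hU hoU a).1 haU, fun v => ?_, fun j hj => ?_, fun j hj v => ?_⟩
  · obtain ⟨c, hc⟩ := C.hq v
    exact ⟨C'.a * c, by rw [show a = C'.a * C.a from _root_.mul_comm _ _, mul_smul, hc, mul_smul]⟩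
  · have h0 := W7See.appLE_eq_zero_of_LT hP C.m C.Q C.η (a := C.a)
      (j := j) (fun v => by simpa using C.kills (j := j) hj (b := 1) v) (lt_one hA Q hP hQ (𝟙_ _))
      (V := ⊤) (fun x _ => show (1 : 𝟙_ _ ⟶ At).left x ∈ U from (point_eq_org (G := At) x).symm ▸ hoU)
      (fun x _ => (point_eq_org (G := At) x).symm ▸ hC)
    by_contra hne
    have hu := (At.left.mem_basicOpen j (org At) hoU).1 ((WeakAssLib.mem_primeIdealOf hU hoU j).2 hne)
    have hmem : org At ∈ At.left.basicOpen j := (WeakAssLib.mem_primeIdealOf hU hoU j).2 hne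
    have hx : IsLocalRing.closedPoint k ∈ (1 : 𝟙_ (Over (Spec (CommRingCat.of k))) ⟶ At).left ⁻¹ᵁ At.left.basicOpen j := by
      rw [← point_eq_org (G := At) (V := 𝟙_ _) (IsLocalRing.closedPoint k)] at hmem
      exact hmem
    have hb := Scheme.basicOpen_appLE (1 : 𝟙_ (Over (Spec (CommRingCat.of k))) ⟶ At).left ⊤ U
      (fun x _ => show (1 : 𝟙_ _ ⟶ At).left x ∈ U from (point_eq_org (G := At) x).symm ▸ hoU) j
    rw [h0, Scheme.basicOpen_zero] at hb
    have hm : IsLocalRing.closedPoint k ∈ (⊤ : (Spec (CommRingCat.of k)).Opens) ⊓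
        (1 : 𝟙_ (Over (Spec (CommRingCat.of k))) ⟶ At).left ⁻¹ᵁ At.left.basicOpen j := ⟨trivial, hx⟩
    exact (le_of_eq hb.symm hm : IsLocalRing.closedPoint k ∈ (⊥ : (Spec (CommRingCat.of k)).Opens)).elim
  · letI : Algebra Γ(At.left, U) Γ(At.left, D) := r.toAlgebra
    haveI : IsLocalization.Away a Γ(At.left, D) := hU.isLocalization_basicOpen a
    obtain ⟨_, ⟨n, rfl⟩, hn⟩ := (IsLocalization.algebraMap_mem_map_algebraMap_iff (Submonoid.powers a) _ C.J j).1 (hle hj)
    obtain ⟨m, hm⟩ := C.kills hn (b := C'.a) v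
    exact ⟨m + n, by rw [pow_add, mul_smul, ← mul_smul _ j v]; exact hm⟩

end Groth.Agent.AVMukai
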