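import Groth.Agent.FMTool.Diag
import Groth.Agent.DQCoh.Devissage
import Groth.Agent.DCohShriek.AdjointShift
import Mathlib.Algebra.Homology.BifunctorShift

/-!
Shifted kernels and kernels of graphs.
-/

set_option autoImplicit false
set_option backward.isDefEq.respectTransparency false
set_option backward.isDefEq.respectTransparency.types false
set_option linter.style.haveILetI false
set_option linter.unusedSectionVars false
set_option maxHeartbeats 1000000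

universe u

open CategoryTheory Limits AlgebraicGeometry HomologicalComplex

attribute [local instance] HasDerivedCategory.standard

noncomputable section

namespace Groth.Agent.AVMukai

open Groth.Agent.KFlat Groth.Agent.ProjForm Groth.Agent.TorBC Groth.Agent.FMTool

variable {X Y : Scheme.{u}}

/-- tensoring with a shifted complex, naturally -/
def tensShift (D : CochainComplex X.Modules ℤ) (n : ℤ) :
    (DCoh.tensorCx (X := X)).flip.obj (D⟦n⟧) ≅
      (DCoh.tensorCx (X := X)).flip.obj D ⋙ shiftFunctor (CochainComplex X.Modules ℤ) n :=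
  NatIso.ofComponents (fun A => (((DCoh.tensorCx (X := X)).obj A).commShiftIso n).app D)
    fun {A B} f => (NatTrans.shift_app_comm ((DCoh.tensorCx (X := X)).map f) n D).symm

/-- `- ⊗^L D[n] = (- ⊗^L D)[n]` -/
theorem nonempty_ltensor_shift (D : CochainComplex X.Modules ℤ) (n : ℤ) [DCoh.HasLTensorCx D]
    [DCoh.HasLTensorCx (D⟦n⟧)] :
    Nonempty (DCoh.LTensorCx (D⟦n⟧) ≅ DCoh.LTensorCx D ⋙ shiftFunctor (DCoh.D X) n) :=
  ⟨liftIso (ltQ (D⟦n⟧) ≪≫ Functor.isoWhiskerLeft _ (Functor.isoWhiskerRight (tensShift D n) _ ≪≫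
    Functor.associator _ _ _ ≪≫ Functor.isoWhiskerLeft _ ((DerivedCategory.Q (C := X.Modules)).commShiftIso n) ≪≫
      (Functor.associator _ _ _).symm) ≪≫ (Functor.associator _ _ _).symm ≪≫
    Functor.isoWhiskerRight (ltQ D).symm _ ≪≫ Functor.associator _ _ _)⟩

/-- inverse images commute with shifts -/
theorem nonempty_lpull_shift (q : Y ⟶ X) [DCoh.HasLpull q] (E : DCoh.D X) (n : ℤ) :
    Nonempty ((DCoh.Lpull q).obj (E⟦n⟧) ≅ ((DCoh.Lpull q).obj E)⟦n⟧) := by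
  obtain ⟨K, hK, -, ⟨ε⟩⟩ := KFlat.exists_isKFlat_rep E
  let Φ := (Scheme.Modules.pullback q).mapHomologicalComplex (ComplexShape.up ℤ)
  exact ⟨(DCoh.Lpull q).mapIso ((shiftFunctor _ n).mapIso ε.symm ≪≫
      ((DerivedCategory.Q (C := X.Modules)).commShiftIso n).symm.app K) ≪≫
    KFlat.lpullIso q (DQCoh.isKFlat_shift hK n) ≪≫
    DerivedCategory.Q.mapIso ((Φ.commShiftIso n).app K) ≪≫
    ((DerivedCategory.Q (C := Y.Modules)).commShiftIso n).app _ ≪≫
    (shiftFunctor _ n).mapIso ((KFlat.lpullIso q hK).symm ≪≫ (DCoh.Lpull q).mapIso ε)⟩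

/-- **the shifted structure sheaf of a graph gives a shifted direct image** -/
theorem nonempty_phi_graph {S Z : Scheme.{u}} (a : X ⟶ S) (c : Z ⟶ S) (j : X ⟶ pullback a c) [IsClosedImmersion j]
    (hj : j ≫ pullback.fst a c = 𝟙 X) (h : X ⟶ Z) (hh : j ≫ pullback.snd a c = h) (n : ℤ)
    (K : CochainComplex (pullback a c).Modules ℤ)
    (hK : Nonempty (DCoh.toD _ K ≅ (DCoh.toD _ (sg ((Scheme.Modules.pushforward j).obj (OO X))))⟦n⟧))
    [DCoh.HasLpull (pullback.fst a c)] [DCoh.HasLTensorCx K] [DCoh.HasRpush (pullback.snd a c)] [DCoh.HasRpush h] :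
    Nonempty (FMK.phi a c K ≅ DCoh.Rpush h ⋙ shiftFunctor (DCoh.D Z) n) := by
  obtain ⟨eK⟩ := hK
  let W := pullback a c
  let p₁ : W ⟶ X := pullback.fst a c
  let p₂ : W ⟶ Z := pullback.snd a c
  haveI := DerPush.hasRpush_sch j
  haveI : DCoh.HasRpush (j ≫ p₂) := DerPush.hasRpush_sch _
  let D := sg ((Scheme.Modules.pushforward j).obj (OO X))
  haveI := KFlat.hasLTensorCx D
  haveI := KFlat.hasLTensorCx (D⟦n⟧)
  obtain ⟨eT⟩ := nonempty_ltensor_congr (K := K) (L := D⟦n⟧)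
    (eK ≪≫ ((DerivedCategory.Q (C := W.Modules)).commShiftIso n).symm.app D)
  obtain ⟨eS⟩ := nonempty_ltensor_shift D n
  obtain ⟨r₁⟩ := HTorBC.nonempty_rpush_comp j p₂
  obtain ⟨r₂⟩ := HTorBC.nonempty_rpush_congr hh
  let c' : qC p₁ ⋙ qC j ≅ 𝟭 (CochainComplex X.Modules ℤ) :=
    NatIso.mapHomologicalComplex (Scheme.Modules.pullbackComp j p₁ ≪≫
      Scheme.Modules.pullbackCongr hj ≪≫ Scheme.Modules.pullbackId X) (ComplexShape.up ℤ) ≪≫
      Functor.mapHomologicalComplexIdIso _ _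
  let T := (DCoh.tensorCx (X := W)).flip.obj D
  let e₀ : qC p₁ ⋙ T ≅ pC j :=
    Functor.isoWhiskerLeft _ (kerPull j) ≪≫ (Functor.associator _ _ _).symm ≪≫ Functor.isoWhiskerRight c' _ ≪≫
      Functor.leftUnitor _
  let e₁ : Q₀ X ⋙ DCoh.Lpull p₁ ⋙ DCoh.LTensorCx D ≅ resF X ⋙ pC j ⋙ Q₀ W :=
    (Functor.associator _ _ _).symm ≪≫ Functor.isoWhiskerRight (lpQ p₁) _ ≪≫
      Functor.isoWhiskerRight (Functor.associator (resF X) (qC p₁) (Q₀ W)).symm _ ≪≫
      Functor.associator (resF X ⋙ qC p₁) (Q₀ W) (DCoh.LTensorCx D) ≪≫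
      ltOn D (resF X ⋙ qC p₁) (fun A => KFlat.isKFlat_pullback p₁ (isKFlat_resF A)) ≪≫
      (Functor.associator (resF X ⋙ qC p₁) T (Q₀ W)).symm ≪≫
      Functor.isoWhiskerRight (Functor.associator (resF X) (qC p₁) T ≪≫ Functor.isoWhiskerLeft _ e₀) _ ≪≫
      Functor.associator (resF X) (pC j) (Q₀ W)
  let e₂ : resF X ⋙ pC j ⋙ Q₀ W ≅ Q₀ X ⋙ DCoh.Rpush j :=
    Functor.isoWhiskerLeft _ (rpQ j) ≪≫ (Functor.associator _ _ _).symm ≪≫ Functor.isoWhiskerRight (rQ X) _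
  let e₃ : DCoh.Lpull p₁ ⋙ DCoh.LTensorCx D ≅ DCoh.Rpush j := liftIso (e₁ ≪≫ e₂)
  let e₄ : DCoh.Lpull p₁ ⋙ DCoh.LTensorCx K ≅ DCoh.Rpush j ⋙ shiftFunctor (DCoh.D W) n :=
    Functor.isoWhiskerLeft _ (eT ≪≫ eS) ≪≫ (Functor.associator _ _ _).symm ≪≫ Functor.isoWhiskerRight e₃ _
  exact ⟨(Functor.associator _ _ _).symm ≪≫ Functor.isoWhiskerRight e₄ _ ≪≫ Functor.associator _ _ _ ≪≫
    Functor.isoWhiskerLeft _ (DCohShriek.rpushShiftIso p₂ n) ≪≫ (Functor.associator _ _ _).symm ≪≫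
    Functor.isoWhiskerRight (r₁ ≪≫ r₂) _⟩

end Groth.Agent.AVMukai
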