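import Groth.Agent.AVMukai.Top
import Groth.Agent.FMTool.AVPush

/-!
The Poincaré bundle pushed to the abelian variety: the skyscraper at the origin again.
-/

set_option autoImplicit false
set_option backward.isDefEq.respectTransparency false
set_option backward.isDefEq.respectTransparency.types false
set_option linter.style.haveILetI false
set_option linter.unusedSectionVars false
set_option maxHeartbeats 2000000

universe u

open CategoryTheory MonoidalCategory CartesianMonoidalCategory MonObj GrpObj AlgebraicGeometry TopologicalSpace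
open Groth.Agent.W7Cube (pull pull_pull pull_cls)
open Groth.Agent.AbPrim (val pull_val)
open Groth.Agent.W7Cech (ModelNN)
open Groth.Agent.FlatCx

noncomputable section

namespace Groth.Agent.AVMukai

/-- fibre cohomology is invariant under automorphisms of the source -/
theorem fiberH_transfer {X' X S : Scheme.{u}} (f : X ⟶ S) (f' : X' ⟶ S) (e : X ⟶ X') [IsIso e] (he : e ≫ f' = f)
    (M : X'.Modules) (hM : Coh.IsQCoh M) (y : S) (p : ℕ) (h : Subsingleton (CohIII.fiberH f' M y p)) :
    Subsingleton (CohIII.fiberH f ((Scheme.Modules.pullback e).obj M) y p) := by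
  have sq : IsPullback e f f' (𝟙 S) := IsPullback.of_horiz_isIso ⟨by rw [he, Category.comp_id]⟩
  have sq' := (IsPullback.of_hasPullback f (S.fromSpecResidueField y)).paste_horiz sq
  rw [Category.comp_id] at sq'
  let ε : f.fiber y ≅ f'.fiber y := sq'.isoPullback
  have hε : ε.hom ≫ f'.fiberι y = f.fiberι y ≫ e := sq'.isoPullback_hom_fst
  let i : (Scheme.Modules.pullback ε.hom).obj (CohIII.fiberMod f' M y) ≅
      CohIII.fiberMod f ((Scheme.Modules.pullback e).obj M) y :=
    (Scheme.Modules.pullbackComp ε.hom (f'.fiberι y)).app M ≪≫ (Scheme.Modules.pullbackCongr hε).app M ≪≫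
      ((Scheme.Modules.pullbackComp (f.fiberι y) e).app M).symm
  exact CohQC.hh_subsingleton_of_iso i p
    (TwistOverVan.subsingleton_hh_pullback_iso ε.hom _ (QC.isQCoh_pullback _ hM) p h)

/-- no sections on an affine open in any degree: no fibre cohomology there -/
theorem fiberH_zero_of_sections_zero {X S : Scheme.{u}} (f : X ⟶ S) [IsProper f] [IsLocallyNoetherian S]
    [HasInjectiveResolutions X.Modules] {F : X.Modules} (hF : Coh.IsCoh F) (hfl : FlatMod.IsFlatOver f F)
    {V : S.Opens} (hV : IsAffineOpen V) (h : ∀ (q : ℕ) (s : Γ((Coh.Rpush f q).obj F, V)), s = 0) {y : S} (hy : y ∈ V)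
    (p : ℕ) : Subsingleton (CohIII.fiberH f F y p) := by
  obtain ⟨m⟩ := W7Cech.nonempty_Model f hF hfl hV
  haveI := m.noeth
  haveI hz : ∀ n : ℕ, Subsingleton Γ((Coh.Rpush f n).obj F, V) := fun n => subsingleton_of_forall_eq 0 (h n)
  have hflat := W7Cech.flatX m.L m.hL
  have he := m.epi_of_flat f p (fun n _ => inferInstance) p le_rfl
  obtain ⟨e⟩ := m.hR p
  haveI : Subsingleton (Hm m.L (p : ℤ)) := e.symm.injective.subsingleton
  have hW := (preservesEpi_iff_flat_opc m.L (p : ℤ) hflat (by simp)).1 he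
  have hT : ∀ M, Limits.IsZero (CohIII.T m.L (p : ℤ) M) := fun M => by
    haveI : Subsingleton (CohIII.T m.L (p : ℤ) M) := (comparison_bijective m.L (p : ℤ) hflat hW M).2.subsingleton
    exact ModuleCat.isZero_of_subsingleton _
  rw [show y = hV.fromSpec (hV.primeIdealOf ⟨y, hy⟩) from (hV.fromSpec_primeIdealOf ⟨y, hy⟩).symm, m.hsub]
  exact (W7Cech.isZero_T_iff_dRank m.L m.hL (p : ℤ) _).1 (hT _)

/-- a module supported on finitely many closed points with sections detected near one of them lives there -/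
theorem sections_zero_off {S : Scheme.{u}} (N : S.Modules) (hfl : RPushQC.IsFlasque N) (Z : Set S) (hZ : Z.Finite)
    (hcl : ∀ z ∈ Z, IsClosed ({z} : Set S)) (h : ∀ O : S.Opens, (∀ x ∈ O, x ∉ Z) → ∀ s : Γ(N, O), s = 0) {V : S.Opens}
    {o : S} (hVZ : ∀ y ∈ V, y ∈ Z → y = o) (hinj : Function.Injective (QC.res N (le_top : V ≤ ⊤)))
    (O : S.Opens) (hO : o ∉ O) (s : Γ(N, O)) : s = 0 := by
  have hC : IsClosed (Z ∩ (O : Set S)) := by
    rw [← Set.biUnion_of_singleton (Z ∩ (O : Set S))]
    exact (hZ.inter_of_left _).isClosed_biUnion fun z hz => hcl z hz.1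
  let W : S.Opens := ⟨(Z ∩ (O : Set S))ᶜ, hC.isOpen_compl⟩
  obtain ⟨t, ht₁, ht₂⟩ := RPushQC.glue N (P := O) (Q := V ⊓ W) (T := O ⊔ (V ⊓ W)) (R := O ⊓ (V ⊓ W))
    le_sup_left le_sup_right inf_le_left inf_le_right (fun x hx => hx) le_rfl s 0 (by
      rw [map_zero]
      exact h _ (fun x (hx : x ∈ (O ⊓ (V ⊓ W) : S.Opens)) hxZ => hx.2.2 ⟨hxZ, hx.1⟩) _)
  obtain ⟨u, hu⟩ := hfl (le_top : O ⊔ (V ⊓ W) ≤ ⊤) t
  have hu0 : QC.res N (le_top : V ≤ ⊤) u = 0 := by
    refine QC.section_eq_of_locally fun x hx => ?_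
    by_cases hxW : x ∈ W
    · refine ⟨V ⊓ W, inf_le_left, ⟨hx, hxW⟩, ?_⟩
      refine (QC.res_res N _ _ u).trans ?_
      rw [map_zero, ← ht₂, ← hu]
      exact (QC.res_res N _ _ u).symm
    · have hxo : x = o := hVZ x hx (by_contra fun hn => hxW fun hc => hn hc.1)
      exact absurd (by_contra fun hn => hxW fun hc => hn (hxo ▸ hc.2)) hO
  have : u = 0 := hinj (hu0.trans (map_zero _).symm)
  rw [← ht₁, ← hu, this, map_zero, map_zero]

attribute [local instance] W7Cube.law

variable {k : Type u} [Field k] {A At : Over (Spec (CommRingCat.of k))} [GrpObj A] [IsProper A.hom] [Smooth A.hom]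
  [GeometricallyConnected A.hom] [GeometricallyIntegral A.hom] [GrpObj At] [IsProper At.hom] [Smooth At.hom]
  [GeometricallyConnected At.hom] [GeometricallyIntegral At.hom] [IsLocallyNoetherian At.left]
  [IsLocallyNoetherian A.left]
  [LocallyOfFiniteType (Limits.pullback.snd A.hom At.hom)]
  {φ : ∀ T : Over (Spec (CommRingCat.of k)), PicF.Cl (PicF.XT A.hom T) → (T ⟶ At)}
  (hA : AbDual.IsDualAV Scheme.fppfPrecoverage A At φ) (Q : AgSymm.Poincare φ)
  {P : (A ⊗ At).left.Modules} (hP : PicF.IsInvertible P) (hQ : Q.x = PicGrp.cls P hP)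
  [HasInjectiveResolutions (A ⊗ At).left.Modules]

include hA hQ in
/-- fibre cohomology along the first projection lives at finitely many closed points, the origin among them -/
theorem exists_hvan_fst : ∃ Z : Set A.left, Z.Finite ∧ (∀ z ∈ Z, IsClosed ({z} : Set A.left)) ∧ org A ∈ Z ∧
    ∀ y ∉ Z, ∀ p, Subsingleton (CohIII.fiberH (Limits.pullback.fst A.hom At.hom) P y p) := by
  let β := β_ At A
  let β' : (A ⊗ At).left ⟶ (At ⊗ A).left := (β_ A At).hom.left
  haveI : IsIso β' := inferInstanceAs (IsIso ((Over.forget _).map (β_ A At).hom))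
  haveI : IsIso β.hom.left := inferInstanceAs (IsIso ((Over.forget _).map β.hom))
  let P' := (Scheme.Modules.pullback β.hom.left).obj P
  have hP' : PicF.IsInvertible P' := PicLoc.isInvertible_pullback _ hP
  obtain ⟨Z, hZ, hcl, hvan⟩ := exists_hvan_swap hA Q hP' (by rw [hQ, pull_cls])
  refine ⟨insert (org A) Z, hZ.insert _, fun z hz => ?_, Set.mem_insert _ _, fun y hy p => ?_⟩
  · rcases hz with rfl | hz
    · exact isClosed_org A
    · exact hcl z hz
  · have h := fiberH_transfer (Limits.pullback.fst A.hom At.hom) (Limits.pullback.snd At.hom A.hom) β'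
      (congrArg (fun m => m.left) (braiding_hom_snd A At)) P' (TMul.isQCoh_of_isInvertible hP') y p
      (hvan y (fun h => hy (Set.mem_insert_of_mem _ h)) p)
    have hb : β' ≫ β.hom.left = 𝟙 _ := by
      rw [← Over.comp_left, SymmetricCategory.symmetry, Over.id_left]
    let i : (Scheme.Modules.pullback β').obj P' ≅ P := (Scheme.Modules.pullbackComp β' β.hom.left).app P ≪≫
      (Scheme.Modules.pullbackCongr hb).app P ≪≫ (Scheme.Modules.pullbackId _).app P
    exact CohQC.hh_subsingleton_of_iso ((Scheme.Modules.pullback _).mapIso i) p h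

include hA hQ in
/-- the direct image along the first projection vanishes outside the dimension -/
theorem isZero_fst (g : ℕ) (hg : topologicalKrullDim A.left = g) (hgt : topologicalKrullDim At.left = g) (n : ℕ)
    (hn : n ≠ g) : Limits.IsZero ((Coh.Rpush (Limits.pullback.fst A.hom At.hom) n).obj P) := by
  obtain ⟨Z, hZ, hcl, -, hvan⟩ := exists_hvan_fst hA Q hP hQ
  obtain ⟨m, hm, hreg⟩ := exists_dim A
  obtain rfl : m = g := by exact_mod_cast hm.symm.trans hg
  have hfl := W7Hull.isFlatOver_of_isInvertible (Limits.pullback.fst A.hom At.hom) hP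
  refine QCGen.isZero_of_sections fun O s => ?_
  rcases lt_or_gt_of_ne hn with h | h
  · exact sections_zero_low _ (isCoh_inv hP) hfl Z hZ hcl hvan (W7Hull.isFP_of_isInvertible hP) m
      (fun z hz => hreg z (hcl z hz)) n h O s
  · letI : (Limits.pullback A.hom At.hom).Over (Spec (CommRingCat.of k)) := ⟨Limits.pullback.fst A.hom At.hom ≫ A.hom⟩
    obtain ⟨e⟩ := nonempty_top (Limits.pullback.fst A.hom At.hom) (isCoh_inv hP) hfl Z hZ hcl hvan k n
    haveI : Subsingleton (Coh.HH (Limits.pullback A.hom At.hom) P n) :=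
      subsingleton_hh hA Q hP hQ n fun s => sections_zero_above hA Q hP hQ m hg n h ⊤ s
    obtain ⟨t, rfl⟩ := isFlasque_rpush _ (isCoh_inv hP) hfl Z hZ hcl hvan n (le_top : O ≤ ⊤) s
    rw [show t = 0 from e.injective (Subsingleton.elim _ _), map_zero]

include hA hQ in
/-- the fibre over the origin has nonzero cohomology -/
theorem not_subsingleton_fiberH_org :
    ¬ Subsingleton (CohIII.fiberH (Limits.pullback.fst A.hom At.hom) P (org A) 0) := by
  let f := Limits.pullback.fst A.hom At.hom
  let o := A.left.fromSpecResidueField (org A)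
  have hres : resHom A (org A) = 1 := Over.OverMorphism.ext (by
    rw [Hom.one_def, Over.comp_left]
    have hw : (o ≫ A.hom) ≫ η[A].left = o := by
      rw [Category.assoc]
      exact W7Cube.fromSpecResidueField_section η[A].left A.hom (Over.w η[A]) (IsLocalRing.closedPoint k)
    exact hw.symm)
  have sq := (FMTool.isPullback_fst_whiskerRight (resHom A (org A)) At).flip
  have h1 : pull (resHom A (org A) ▷ At).left Q.x = 1 := by
    have e : resHom A (org A) ▷ At = lift 1 (snd (resPt A (org A)) At) := CartesianMonoidalCategory.hom_ext _ _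
      (by rw [whiskerRight_fst, lift_fst, hres, comp_one]) (by rw [whiskerRight_snd, lift_snd])
    rw [e]
    exact Q.val_one_left _
  let ε : f.fiber (org A) ≅ (resPt A (org A) ⊗ At).left := (IsPullback.of_hasPullback f o).isoIsPullback _ _ sq
  have hε : ε.hom ≫ (resHom A (org A) ▷ At).left = f.fiberι (org A) := IsPullback.isoIsPullback_hom_fst _ _ _ _
  have h2 : pull (f.fiberι (org A)) (PicGrp.cls P hP) = 1 := by
    rw [← hε, ← pull_pull, ← hQ]
    exact (congrArg (pull ε.hom) h1).trans (map_one _)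
  rw [pull_cls] at h2
  obtain ⟨j⟩ := (PicGrp.cls_eq_one_iff _).1 h2
  haveI : GeometricallyConnected f := W7See.geometricallyConnected_of_geometricallyIntegral f
  have hr := W7See.fiberRank_eq_one f P _ (W7See.bijective_fiber f _) j
  intro h
  haveI := h
  rw [CohIII.fiberRank, Module.finrank_zero_of_subsingleton] at hr
  exact zero_ne_one hr

include hA hQ in
/-- **the skyscraper on the abelian variety** -/
theorem nonempty_skyscraper_fst (g : ℕ) (hg : topologicalKrullDim A.left = g) (hgt : topologicalKrullDim At.left = g) :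
    Nonempty ((Coh.Rpush (Limits.pullback.fst A.hom At.hom) g).obj P ≅
      (Coh.push η[A].left).obj (Coh.structureModule (Spec (CommRingCat.of k)))) := by
  obtain ⟨Z, hZ, hcl, hoZ, hvan⟩ := exists_hvan_fst hA Q hP hQ
  let f := Limits.pullback.fst A.hom At.hom
  haveI : LocallyOfFinitePresentation f := InfLift.lfp_of_lft f
  have hfl := W7Hull.isFlatOver_of_isInvertible f hP
  let G := (Coh.Rpush f g).obj P
  have hflasque : RPushQC.IsFlasque G := isFlasque_rpush f (isCoh_inv hP) hfl Z hZ hcl hvan g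
  letI : (Limits.pullback A.hom At.hom).Over (Spec (CommRingCat.of k)) := ⟨Limits.pullback.fst A.hom At.hom ≫ A.hom⟩
  obtain ⟨e, he⟩ := exists_rpush_top_linear k f P g (fun q n =>
    haveI := RPushQC.isFlasque_toAb (isFlasque_rpush f (isCoh_inv hP) hfl Z hZ hcl hvan q)
    SiteCoh.flasque_acyclic (Coh.toAb ((Coh.Rpush f q).obj P)) (⊤ : A.left.Opens) n) A.hom rfl
  have h1 := finrank_top hA Q hP hQ g hgt
  obtain ⟨x₀, hx₀, hx₀g⟩ := finrank_eq_one_iff'.1 h1
  let s := e.symm x₀
  have hs : s ≠ 0 := fun h => hx₀ (e.symm.injective (h.trans (map_zero e.symm).symm))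
  have hgen : ∀ t : Γ(G, ⊤), ∃ a : k, (show Γ(A.left, ⊤) from Coh.toGlobal A.hom a) • s = t := fun t => by
    obtain ⟨a, ha⟩ := hx₀g (e t)
    exact ⟨a, e.injective (by rw [he, e.apply_symm_apply, ha])⟩
  obtain ⟨V, hV, hoV, -, hVZ⟩ := exists_affine_single Z hZ hcl (O := ⊤) (x := org A) trivial
  -- the restriction of the generator near the origin
  have hsV : QC.res G (le_top : V ≤ ⊤) s ≠ 0 := fun h0 => by
    refine not_subsingleton_fiberH_org hA Q hP hQ (fiberH_zero_of_sections_zero f (isCoh_inv hP) hfl hV ?_ hoV 0)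
    intro q t
    by_cases hq : q = g
    · subst hq
      obtain ⟨t', rfl⟩ := hflasque (le_top : V ≤ ⊤) t
      obtain ⟨a, rfl⟩ := hgen t'
      rw [QC.res_smul, h0, smul_zero]
    · exact PinchQC.subsingleton_sections_of_isZero (isZero_fst hA Q hP hQ g hg hgt q hq) V |>.elim _ _
  have hinj : Function.Injective (QC.res G (le_top : V ≤ ⊤)) := (injective_iff_map_eq_zero _).2 fun t ht => by
    obtain ⟨a, rfl⟩ := hgen t
    by_cases ha : a = 0
    · rw [ha, map_zero, zero_smul]
    · refine absurd ?_ hsV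
      have hu : IsUnit (QC.resO A.left (le_top : V ≤ ⊤) (Coh.toGlobal A.hom a)) :=
        ((isUnit_iff_ne_zero.2 ha).map (Coh.toGlobal A.hom)).map _
      rw [QC.res_smul] at ht
      exact hu.smul_eq_zero.1 ht
  have hoff := sections_zero_off G hflasque Z hZ hcl (fun O hO t => sections_zero_away f (isCoh_inv hP) hfl Z hvan g O hO t)
    hVZ hinj
  have hker : ∀ (U : A.left.affineOpens) (a : Γ(A.left, U.1)), a ∈ η[A].left.ker.ideal U → ∀ t : Γ(G, U.1), a • t = 0 := by
    intro U a ha t
    rw [Scheme.Hom.ker_apply] at ha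
    refine QC.section_eq_of_locally fun x hx => ?_
    by_cases hxo : x = org A
    · subst hxo
      obtain ⟨W, hW, hoW, hWU⟩ := exists_isAffineOpen_mem_and_subset (X := A.left) (x := org A) (U := U.1 ⊓ V) ⟨hx, hoV⟩
      have hWU' : W ≤ U.1 := fun z hz => (hWU hz).1
      have hWV : W ≤ V := fun z hz => (hWU hz).2
      refine ⟨W, hWU', hoW, ?_⟩
      rw [QC.res_smul, map_zero]
      -- over the smaller open through the origin
      obtain ⟨t', ht'⟩ := hflasque (le_top : W ≤ ⊤) (QC.res G hWU' t)
      obtain ⟨d, rfl⟩ := hgen t'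
      rw [← ht']
      haveI : IsNoetherianRing Γ(A.left, W) := IsLocallyNoetherian.component_noetherian ⟨W, hW⟩
      have hmem : QC.resO A.left hWU' a ∈ (hW.primeIdealOf ⟨org A, hoW⟩).asIdeal := by
        by_contra hne
        have h1 : org A ∈ A.left.basicOpen a := by
          have := (WeakAssLib.mem_primeIdealOf hW hoW _).2 hne
          rw [QC.resO, Scheme.basicOpen_res] at this
          exact this.2
        have h2 : IsLocalRing.closedPoint k ∈ η[A].left ⁻¹ᵁ A.left.basicOpen a := h1
        have h3 : (η[A].left.app U.1).hom a = 0 := RingHom.mem_ker.1 ha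
        rw [Scheme.preimage_basicOpen, h3, Scheme.basicOpen_zero] at h2
        exact h2.elim
      obtain ⟨M⟩ := W7Cech.nonempty_ModelNN f (isCoh_inv hP).1 (W7Hull.isFP_of_isInvertible hP) hfl hW
      obtain ⟨ε⟩ := M.hR g
      have hsupp := dRank_off f Z hvan M hoW (fun y hy => hVZ y (hWV hy))
      let E := ε.trans (HmEquivT M.L (W7Cech.flatX M.L M.hL) (g : ℤ))
      let b := QC.resO A.left hWU' a
      obtain ⟨n, hn⟩ := htors _ M.L M.hL hsupp (g : ℤ) _ (E (QC.res G le_top s)) b hmem
      have hn' : b ^ n • QC.res G (le_top : W ≤ ⊤) s = 0 := E.injective (by rw [map_smul, hn, map_zero])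
      obtain ⟨u', hu'⟩ := hflasque (le_top : W ≤ ⊤) (b • QC.res G le_top s)
      obtain ⟨c, hc⟩ := hgen u'
      let gc := QC.resO A.left (le_top : W ≤ ⊤) (Coh.toGlobal A.hom c)
      have hac : b • QC.res G (le_top : W ≤ ⊤) s = gc • QC.res G le_top s := by rw [← hu', ← hc, QC.res_smul]
      have hpow : ∀ i : ℕ, b ^ i • QC.res G (le_top : W ≤ ⊤) s = gc ^ i • QC.res G le_top s := fun i => by
        induction i with
        | zero => rw [pow_zero, pow_zero]
        | succ i ih => rw [pow_succ, mul_smul, hac, smul_comm, ih, smul_smul, pow_succ']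
      have hsW : QC.res G (le_top : W ≤ ⊤) s ≠ 0 := fun h0 => hsV (by
        refine QC.section_eq_of_locally fun y hy => ?_
        by_cases hyo : y = org A
        · exact ⟨W, hWV, hyo ▸ hoW, by rw [QC.res_res, h0, map_zero]⟩
        · let O : A.left.Opens := ⟨{org A}ᶜ, (isClosed_org A).isOpen_compl⟩
          exact ⟨V ⊓ O, inf_le_left, ⟨hy, hyo⟩, (hoff _ (fun (h : org A ∈ (V ⊓ O : A.left.Opens)) => h.2 rfl) _).trans (map_zero _).symm⟩)
      have hc0 : c = 0 := by
        by_contra hne
        have hu : IsUnit (gc ^ n) := (((isUnit_iff_ne_zero.2 hne).map (Coh.toGlobal A.hom)).map _).pow n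
        rw [hpow n] at hn'
        exact hsW (hu.smul_eq_zero.1 hn')
      rw [QC.res_smul, smul_comm, hac]
      simp only [gc, hc0, map_zero, zero_smul, smul_zero]
    · let O : A.left.Opens := ⟨{org A}ᶜ, (isClosed_org A).isOpen_compl⟩
      exact ⟨U.1 ⊓ O, inf_le_left, ⟨hx, hxo⟩, (hoff _ (fun (h : org A ∈ (U.1 ⊓ O : A.left.Opens)) => h.2 rfl) _).trans (map_zero _).symm⟩
  haveI : IsClosedImmersion η[A].left := by
    haveI : IsClosedImmersion (η[A].left ≫ A.hom) := by
      rw [Over.w η[A]]
      exact inferInstanceAs (IsClosedImmersion (𝟙 (Spec (CommRingCat.of k))))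
    exact IsClosedImmersion.of_comp η[A].left A.hom
  haveI := (SupportLib.isIso_unit_iff η[A].left G).2 hker
  let u := (Scheme.Modules.pullbackPushforwardAdjunction η[A].left).unit.app G
  have hN : Coh.IsQCoh ((Scheme.Modules.pullback η[A].left).obj G) := QC.isQCoh_pullback η[A].left
    (RPushQC.isQCoh_rpush _ P (TMul.isQCoh_of_isInvertible hP) g)
  have hu := ConcreteCategory.bijective_of_isIso (u.app ⊤)
  obtain ⟨i⟩ := nonempty_iso_structure k _ hN (u.app ⊤ s : Γ((Scheme.Modules.pullback η[A].left).obj G, ⊤))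
    (fun h => hs (hu.1 (h.trans (map_zero _).symm))) fun t => by
      obtain ⟨t₀, ht₀⟩ := hu.2 t
      obtain ⟨a, ha⟩ := hgen t₀
      exact ⟨(η[A].left.app ⊤).hom (Coh.toGlobal A.hom a), by
        rw [← ht₀, ← ha, Scheme.Modules.Hom.app_smul]
        rfl⟩
  exact ⟨asIso u ≪≫ (Scheme.Modules.pushforward η[A].left).mapIso i⟩

end Groth.Agent.AVMukai
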